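import Cfsg.Agent.SympType.Fusion

/-!
# The normaliser of a group of symplectic type is generated by scalars, the group and its transvections
-/

set_option autoImplicit false
set_option linter.unusedSectionVars false

namespace CfsgLib.SympPow

open Matrix Cfsg.Geo CfsgLib.SympType

local notation:max "mat" => Units.val

variable {ι : Type} [Fintype ι] [DecidableEq ι] {F : Type*} [Field F] [Nonempty ι] {S : Subgroup (GL ι F)}
  (D : Data S)
include D

theorem bit_inv_left {x y : GL ι F} (hx : x ∈ S) (hy : y ∈ S) : bit x⁻¹ y = bit x y := by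
  have e := D.bit_mul (S.inv_mem hx) hx hy
  rw [inv_mul_cancel, bit_eq_zero.2 (by simp)] at e
  exact (by decide : ∀ a b : ZMod 2, 0 = a + b → a = b) _ _ e

theorem bit_right_mul {x y z : GL ι F} (hx : x ∈ S) (hy : y ∈ S) (hz : z ∈ S) :
    bit x (y * z) = bit x y + bit x z := by
  rw [bit_comm, D.bit_mul hy hz hx, bit_comm y, bit_comm z]

/-- What is orthogonal to the orthogonal of a set lies in its span. -/
theorem mem_of_perp (s : Finset (GL ι F)) : ∀ x ∈ S, (∀ w ∈ s, w ∈ S) →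
    (∀ z ∈ S, (∀ w ∈ s, bit w z = 0) → bit x z = 0) →
    ∀ U : Subgroup (GL ι F), (∀ y ∈ S, y ∈ scalars ι F → y ∈ U) → (∀ w ∈ s, w ∈ U) → x ∈ U := by
  classical
  induction s using Finset.induction_on with
  | empty =>
    intro x hx _ h U hU _
    exact hU x hx (D.scalar_of_bit fun y hy => h y hy (by simp))
  | insert w₀ s hw₀ ih =>
    intro x hx hS h U hU hsU
    simp only [Finset.forall_mem_insert] at hS hsU
    obtain ⟨hw₀S, hS⟩ := hS
    by_cases h0 : ∀ z ∈ S, (∀ w ∈ s, bit w z = 0) → bit w₀ z = 0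
    · exact ih x hx hS (fun z hz hzs => h z hz (Finset.forall_mem_insert _ _ _ |>.2 ⟨h0 z hz hzs, hzs⟩)) U hU hsU.2
    push Not at h0
    obtain ⟨z₀, hz₀, hz₀s, hw₀z⟩ := h0
    replace hw₀z : bit w₀ z₀ = 1 := (by decide : ∀ c : ZMod 2, c ≠ 0 → c = 1) _ hw₀z
    have key : ∀ z ∈ S, (∀ w ∈ s, bit w z = 0) → bit w₀ z = 1 → bit x z = bit x z₀ := fun z hz hzs h1 => by
      have := h (z * z₀) (S.mul_mem hz hz₀) (Finset.forall_mem_insert _ _ _ |>.2
        ⟨by rw [bit_right_mul D hw₀S hz hz₀, h1, hw₀z]; decide,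
          fun w hw => by rw [bit_right_mul D (hS w hw) hz hz₀, hzs w hw, hz₀s w hw, add_zero]⟩)
      rw [bit_right_mul D hx hz hz₀] at this
      exact (by decide : ∀ a b : ZMod 2, a + b = 0 → a = b) _ _ this
    rcases (by decide : ∀ c : ZMod 2, c = 0 ∨ c = 1) (bit x z₀) with e | e
    · refine ih x hx hS (fun z hz hzs => ?_) U hU hsU.2
      rcases (by decide : ∀ c : ZMod 2, c = 0 ∨ c = 1) (bit w₀ z) with h1 | h1
      · exact h z hz (Finset.forall_mem_insert _ _ _ |>.2 ⟨h1, hzs⟩)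
      · rw [key z hz hzs h1, e]
    · have hmem : x * w₀ ∈ U := ih (x * w₀) (S.mul_mem hx hw₀S) hS (fun z hz hzs => ?_) U hU hsU.2
      · have := U.mul_mem hmem (U.inv_mem hsU.1)
        rwa [mul_inv_cancel_right] at this
      · rw [D.bit_mul hx hw₀S hz]
        rcases (by decide : ∀ c : ZMod 2, c = 0 ∨ c = 1) (bit w₀ z) with h1 | h1
        · rw [h1, h z hz (Finset.forall_mem_insert _ _ _ |>.2 ⟨h1, hzs⟩), add_zero]
        · rw [key z hz hzs h1, e, h1]; decide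

omit D in
/-- The classes fixed by `a`. -/
def fixed (S : Subgroup (GL ι F)) (a : GL ι F) : Subgroup (GL ι F) where
  carrier := {x | x ∈ S ∧ x⁻¹ * (a * x * a⁻¹) ∈ scalars ι F}
  one_mem' := ⟨S.one_mem, by simp [one_mem]⟩
  mul_mem' := fun {x y} ⟨hx, h⟩ ⟨hy, h'⟩ => ⟨S.mul_mem hx hy, by
    rw [show (x * y)⁻¹ * (a * (x * y) * a⁻¹) = y⁻¹ * (x⁻¹ * (a * x * a⁻¹)) * (a * y * a⁻¹) by group,
      ← scalar_comm h y⁻¹, mul_assoc]
    exact mul_mem h h'⟩
  inv_mem' := fun {x} ⟨hx, h⟩ => ⟨S.inv_mem hx, by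
    have h' := inv_mem h
    rw [show x⁻¹⁻¹ * (a * x⁻¹ * a⁻¹) = x * (x⁻¹ * (a * x * a⁻¹))⁻¹ * x⁻¹ by group, ← scalar_comm h' x,
      mul_inv_cancel_right]
    exact h'⟩

variable [Finite F] {j : GL ι F} (hj : j ∈ S) (hjs : j ∈ scalars ι F) (hj2 : j * j = -1)
include hj hjs hj2

/-- A subgroup containing scalars, `S` and the transvections contains the normaliser. -/
theorem normalizer_le {T : Subgroup (GL ι F)} (hsc : scalars ι F ≤ T) (hS : S ≤ T)
    (htv : ∀ z ∈ S, z * z = -1 → z ∉ scalars ι F → ∀ t : GL ι F, mat t = 1 + mat z → t ∈ T) :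
    subgroupNormalizer S ≤ T := by
  classical
  suffices h : ∀ n, ∀ a ∈ subgroupNormalizer S, Nat.card S - Nat.card (fixed S a) ≤ n → a ∈ T from
    fun a ha => h _ a ha le_rfl
  intro n
  induction n using Nat.strong_induction_on with
  | _ n ih =>
  intro a ha hn
  have hconj : ∀ {x}, x ∈ S → a * x * a⁻¹ ∈ S := fun {x} hx => (Subgroup.mem_normalizer_iff.1 ha x).1 hx
  by_cases hall : ∀ x ∈ S, x ∈ fixed S a
  · obtain ⟨w, hw, hwa⟩ := D.inner (n := a) fun x hx => by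
      obtain ⟨-, h⟩ := hall x hx
      rcases D.sign_of_conj hx hx rfl h (n := a) (by rw [scalar_comm h x, mul_inv_cancel_left]) with e | e
      · exact Or.inl (mul_inv_eq_iff_eq_mul.1 e)
      · exact Or.inr (by rw [← neg_mul]; exact mul_inv_eq_iff_eq_mul.1 e)
    rw [show a = w * (w⁻¹ * a) by group]
    exact T.mul_mem (hS hw) (hsc hwa)
  push Not at hall
  obtain ⟨x, hx, hxF⟩ := hall
  have hbitc : ∀ {u v : GL ι F}, bit (a * u * a⁻¹) (a * v * a⁻¹) = bit u v := fun {u v} => bit_conj a u v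
  have hfix : ∀ {u f}, u ∈ S → f ∈ fixed S a → bit (a * u * a⁻¹) f = bit u f := fun {u f} hu hf => by
    obtain ⟨hf', hs⟩ := hf
    conv_rhs => rw [← hbitc (u := u) (v := f), show a * f * a⁻¹ = f * (f⁻¹ * (a * f * a⁻¹)) by group,
      bit_comm, ← scalar_comm hs f, bit_scalar_left hs, bit_comm]
  -- multiplying by a transvection orthogonal to the fixed classes
  have step : ∀ {z}, z ∈ S → (∀ f ∈ fixed S a, bit z f = 0) → z ∉ scalars ι F → ∃ t ∈ T, ∃ z' ∈ S,
      t * a ∈ subgroupNormalizer S ∧ fixed S a ≤ fixed S (t * a) ∧ z⁻¹ * z' ∈ scalars ι F ∧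
      ∀ u ∈ S, bit z u = 1 → t * u * t⁻¹ = z' * u := by
    intro z hz hzf hzns
    obtain ⟨⟨s, hs, hsz, hsz2⟩, -⟩ := D.rootify hj hjs hj2 hz
    obtain ⟨t, ht⟩ := D.exists_tv hsz2
    have hns : s * z ∉ scalars ι F := fun h => hzns (by
      have := mul_mem (inv_mem hs) h
      rwa [inv_mul_cancel_left] at this)
    refine ⟨t, htv _ hsz hsz2 hns t ht, s * z, hsz, mul_mem (D.tv_normalizer ht hsz hsz2) ha, fun f hf => ?_, ?_,
      fun u hu hzu => ?_⟩
    · obtain ⟨hfS, hfs⟩ := hf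
      have hc : t * f = f * t := tv_comm ht (bit_eq_zero.1 (by rw [bit_scalar_left hs]; exact hzf f ⟨hfS, hfs⟩))
      refine ⟨hfS, ?_⟩
      rw [show f⁻¹ * (t * a * f * (t * a)⁻¹) = f⁻¹ * t * f * (f⁻¹ * (a * f * a⁻¹)) * t⁻¹ by group, mul_assoc f⁻¹ t,
        hc, inv_mul_cancel_left, mul_assoc t, scalar_comm hfs t⁻¹, ← mul_assoc, mul_inv_cancel, one_mul]
      exact hfs
    · rw [scalar_comm hs z, inv_mul_cancel_left]; exact hs
    · rw [tv_anti ht hsz2 ((D.bit_eq_one hsz hu).1 (by rw [bit_scalar_left hs]; exact hzu)), mul_inv_cancel_right]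
  have grow : ∀ {t}, t ∈ T → t * a ∈ subgroupNormalizer S → fixed S a ≤ fixed S (t * a) →
      (∃ y ∈ fixed S (t * a), y ∉ fixed S a) → a ∈ T := by
    intro t htT hta hle ⟨y, hy, hy'⟩
    have hlt : Nat.card (fixed S a) < Nat.card (fixed S (t * a)) := by
      by_contra hge
      exact hy' (Subgroup.eq_of_le_of_card_ge hle (not_lt.1 hge) ▸ hy)
    have hbd : Nat.card (fixed S (t * a)) ≤ Nat.card S :=
      Nat.le_of_dvd Nat.card_pos (Subgroup.card_dvd_of_le fun _ h => h.1)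
    have := ih (Nat.card S - Nat.card (fixed S (t * a))) (by omega) (t * a) hta le_rfl
    have h := T.mul_mem (T.inv_mem htT) this
    rwa [inv_mul_cancel_left] at h
  -- the first kind of step
  have first : ∀ b ∈ subgroupNormalizer S, fixed S a ≤ fixed S b → ∀ t₀ ∈ T, b = t₀ * a →
      bit (b * x * b⁻¹) x = 1 → a ∈ T := by
    intro b hb hle t₀ ht₀ hbe hbit
    by_cases hxb : x ∈ fixed S b
    · exact grow ht₀ (hbe ▸ hb) (hbe ▸ hle) ⟨x, hbe ▸ hxb, hxF⟩
    have hbx : b * x * b⁻¹ ∈ S := (Subgroup.mem_normalizer_iff.1 hb x).1 hx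
    obtain ⟨z, hz⟩ : ∃ z, z = b * x * b⁻¹ * x⁻¹ := ⟨_, rfl⟩
    have hzS : z ∈ S := hz ▸ S.mul_mem hbx (S.inv_mem hx)
    have hzf : ∀ f ∈ fixed S b, bit z f = 0 := fun f ⟨hfS, hfs⟩ => by
      rw [hz, D.bit_mul hbx (S.inv_mem hx) hfS, bit_inv_left D hx hfS]
      conv_lhs => rw [← bit_conj b x f]
      have e : bit (b * x * b⁻¹) (b * f * b⁻¹) = bit (b * x * b⁻¹) f := by
        rw [show b * f * b⁻¹ = f * (f⁻¹ * (b * f * b⁻¹)) by group, bit_comm, ← scalar_comm hfs f,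
          bit_scalar_left hfs, bit_comm]
      rw [e]
      exact (by decide : ∀ c : ZMod 2, c + c = 0) _
    have hzx : bit z x = 1 := by rw [hz, D.bit_mul hbx (S.inv_mem hx) hx, hbit, bit_inv_left D hx hx, bit_self, add_zero]
    have hzns : z ∉ scalars ι F := D.ns_of_bit hzx
    obtain ⟨⟨s, hs, hsz, hsz2⟩, -⟩ := D.rootify hj hjs hj2 hzS
    obtain ⟨t, ht⟩ := D.exists_tv hsz2
    have hns : s * z ∉ scalars ι F := fun h => hzns (by
      have := mul_mem (inv_mem hs) h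
      rwa [inv_mul_cancel_left] at this)
    have htT := htv _ hsz hsz2 hns t ht
    refine grow (t := t * t₀) (T.mul_mem htT ht₀) ?_ ?_ ⟨x, ?_, hxF⟩
    · rw [mul_assoc, ← hbe]; exact mul_mem (D.tv_normalizer ht hsz hsz2) hb
    · intro f hf
      obtain ⟨hfS, hfs⟩ := hle hf
      refine ⟨hfS, ?_⟩
      rw [mul_assoc t, ← hbe]
      have hc : t * f = f * t := tv_comm ht (bit_eq_zero.1 (by rw [bit_scalar_left hs]; exact hzf f ⟨hfS, hfs⟩))
      rw [show f⁻¹ * (t * b * f * (t * b)⁻¹) = f⁻¹ * t * f * (f⁻¹ * (b * f * b⁻¹)) * t⁻¹ by group, mul_assoc f⁻¹ t,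
        hc, inv_mul_cancel_left, mul_assoc t, scalar_comm hfs t⁻¹, ← mul_assoc, mul_inv_cancel, one_mul]
      exact hfs
    · refine ⟨hx, ?_⟩
      rw [mul_assoc t, ← hbe, show t * b * x * (t * b)⁻¹ = t * (b * x * b⁻¹) * t⁻¹ by group,
        tv_anti ht hsz2 ((D.bit_eq_one hsz hbx).1 (by
          rw [bit_scalar_left hs, hz, D.bit_mul hbx (S.inv_mem hx) hbx, bit_self, bit_inv_left D hx hbx, bit_comm,
            hbit, zero_add])), mul_inv_cancel_right, hz]
      have hsq : (b * x * b⁻¹) * (b * x * b⁻¹) ∈ scalars ι F := by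
        rcases D.sq _ hbx with e | e <;> rw [e]
        exacts [one_mem _, neg_one_mem_scalars]
      rcases D.comm _ hbx _ hx with e | e
      · rw [bit_eq_zero.2 e] at hbit; exact absurd hbit zero_ne_one
      · have e' : x⁻¹ * (b * x * b⁻¹) = -((b * x * b⁻¹) * x⁻¹) := by
          refine mul_right_cancel (b := x) (mul_left_cancel (a := x) ?_)
          rw [neg_mul, inv_mul_cancel_right, mul_neg, show x * (x⁻¹ * (b * x * b⁻¹) * x) = (b * x * b⁻¹) * x by group, e]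
        rw [show s * (b * x * b⁻¹ * x⁻¹) * (b * x * b⁻¹) = s * (b * x * b⁻¹ * (x⁻¹ * (b * x * b⁻¹))) by group, e',
          mul_neg, ← mul_assoc (b * x * b⁻¹)]
        have hxx : x⁻¹ * x⁻¹ ∈ scalars ι F := by
          rw [← _root_.mul_inv_rev]
          refine inv_mem ?_
          rcases D.sq x hx with e | e <;> rw [e]
          exacts [one_mem _, neg_one_mem_scalars]
        rw [mul_neg, mul_neg, show x⁻¹ * (s * (b * x * b⁻¹ * (b * x * b⁻¹) * x⁻¹)) =
          x⁻¹ * (s * (b * x * b⁻¹ * (b * x * b⁻¹))) * x⁻¹ by group, ← scalar_comm (mul_mem hs hsq) x⁻¹, mul_assoc,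
          ← neg_one_mul]
        exact mul_mem neg_one_mem_scalars (mul_mem (mul_mem hs hsq) hxx)
  rcases (by decide : ∀ c : ZMod 2, c = 0 ∨ c = 1) (bit (a * x * a⁻¹) x) with hb | hb
  swap
  · exact first a ha le_rfl 1 T.one_mem (one_mul a).symm hb
  -- an auxiliary transvection
  have sep : ∀ y ∈ S, y ∉ fixed S a → ∃ z ∈ S, (∀ f ∈ fixed S a, bit z f = 0) ∧ bit z y = 1 := by
    intro y hy hyF
    by_contra h
    push Not at h
    haveI : Fintype (fixed S a) := Fintype.ofFinite _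
    refine hyF (mem_of_perp D (Finset.univ.image fun f : fixed S a => (f : GL ι F)) y hy ?_ ?_ _ ?_ ?_)
    · intro w hw
      obtain ⟨f, -, rfl⟩ := Finset.mem_image.1 hw
      exact f.2.1
    · intro z hz hzs
      rw [bit_comm]
      refine (by decide : ∀ c : ZMod 2, c ≠ 1 → c = 0) _ (h z hz fun f hf => ?_)
      rw [bit_comm]
      exact hzs f (Finset.mem_image.2 ⟨⟨f, hf⟩, Finset.mem_univ _, rfl⟩)
    · intro w hw hws
      exact ⟨hw, by rw [← scalar_comm hws a, mul_inv_cancel_right, inv_mul_cancel]; exact one_mem _⟩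
    · intro w hw
      obtain ⟨f, -, rfl⟩ := Finset.mem_image.1 hw
      exact f.2
  have hax : a * x * a⁻¹ ∉ fixed S a := fun h => hxF ⟨hx, by
    obtain ⟨-, hs⟩ := h
    rw [show (a * x * a⁻¹)⁻¹ * (a * (a * x * a⁻¹) * a⁻¹) = a * (x⁻¹ * (a * x * a⁻¹)) * a⁻¹ by group] at hs
    rw [show x⁻¹ * (a * x * a⁻¹) = a⁻¹ * (a * (x⁻¹ * (a * x * a⁻¹)) * a⁻¹) * a by group, ← scalar_comm hs a⁻¹,
      inv_mul_cancel_right]
    exact hs⟩
  obtain ⟨z₁, hz₁, hz₁f, hz₁x⟩ := sep x hx hxF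
  obtain ⟨z₂, hz₂, hz₂f, hz₂x⟩ := sep _ (hconj hx) hax
  obtain ⟨z, hz, hzf, hzx, hzax⟩ : ∃ z ∈ S, (∀ f ∈ fixed S a, bit z f = 0) ∧ bit z x = 1 ∧
      bit z (a * x * a⁻¹) = 1 := by
    rcases (by decide : ∀ c : ZMod 2, c = 0 ∨ c = 1) (bit z₁ (a * x * a⁻¹)) with e | e
    · rcases (by decide : ∀ c : ZMod 2, c = 0 ∨ c = 1) (bit z₂ x) with e' | e'
      · exact ⟨z₁ * z₂, S.mul_mem hz₁ hz₂, fun f hf => by rw [D.bit_mul hz₁ hz₂ hf.1, hz₁f f hf, hz₂f f hf, add_zero],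
          by rw [D.bit_mul hz₁ hz₂ hx, hz₁x, e', add_zero], by rw [D.bit_mul hz₁ hz₂ (hconj hx), e, hz₂x, zero_add]⟩
      · exact ⟨z₂, hz₂, hz₂f, e', hz₂x⟩
    · exact ⟨z₁, hz₁, hz₁f, hz₁x, e⟩
  obtain ⟨t, htT, z', hz', hta, hle, hzz, hmove⟩ := step hz hzf (D.ns_of_bit hzx)
  refine first (t * a) hta hle t htT rfl ?_
  rw [show t * a * x * (t * a)⁻¹ = t * (a * x * a⁻¹) * t⁻¹ by group, hmove _ (hconj hx) hzax, D.bit_mul hz' (hconj hx) hx,
    hb, add_zero, show z' = z * (z⁻¹ * z') by group, ← scalar_comm hzz z, bit_scalar_left hzz, hzx]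

end CfsgLib.SympPow
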