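import Cfsg.Agent.SympPow.SpFrame
import Cfsg.Agent.SympPow.Generate
import Cfsg.Agent.SympType.Projection
import Cfsg.Agent.SympType.LinearPow
import Cfsg.Agent.SpEight.Theta

/-!
# Centralisers of square roots of `-1` in overgroups of the normaliser of `2^{1+2k}₋` in `Sp_{4l}`
-/

set_option autoImplicit false
set_option linter.unusedSectionVars false

namespace CfsgLib.SympPow

open Matrix Cfsg.Geo CfsgLib.SympType
open CfsgLib.SpEight (centJ mem_centJ thetaMat thetaMat_mul theta theta_val theta_injective theta_unitJ unitJ unitJ_sq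
  unitJ_mem scalar_sp)
open scoped commutatorElement

local notation:max "mat" => Units.val

variable {F : Type*} [Field F] {l : ℕ}

/-- Elements mapping a finite group into itself normalise it. -/
theorem mem_normalizer_of_forall {η : Type} [Fintype η] [DecidableEq η] {L : Type*} [Field L] [Finite L]
    {S : Subgroup (GL η L)} {g : GL η L} (h : ∀ x ∈ S, g * x * g⁻¹ ∈ S) : g ∈ subgroupNormalizer S := by
  have hle : S.map (MulAut.conj g).toMonoidHom ≤ S := by
    rintro _ ⟨x, hx, rfl⟩; exact h x hx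
  have heq : S.map (MulAut.conj g).toMonoidHom = S := Subgroup.eq_of_le_of_card_ge hle
    (le_of_eq (Nat.card_congr (S.equivMapOfInjective _ (MulAut.conj g).injective).toEquiv))
  refine Subgroup.mem_normalizer_iff.2 fun x => ⟨h x, fun hx => ?_⟩
  rw [← heq] at hx
  obtain ⟨y, hy, hye⟩ := hx
  simp at hye
  rwa [← hye]

local notation "ι" => (Fin (l + l) ⊕ Fin (l + l))
local notation "κ" => (Fin l ⊕ Fin l)

/-- What is used of the unitary or linear group of the centraliser of `J`. -/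
structure ThetaBase {L : Type*} [Field L] (ψ : F →+* L) (c : L) (hc : c * c = -1) (m k : ℕ)
    (K : Subgroup (GL (Fin m) L)) : Prop where
  mem : ∀ g : ↥(centJ m F), (mat (theta ψ c hc g)).det = 1 → theta ψ c hc g ∈ K
  base : ∀ S : Subgroup (GL (Fin m) L), Data S → (∃ i ∈ S, i ∈ scalars (Fin m) L ∧ i * i = -1) →
    Nat.card S = 2 ^ (2 * k) → S ≤ K → IsMaximalIn K (subgroupNormalizer S ⊓ K)

/-- Centralisers of `J` in an overgroup. -/
theorem cent_unitJ [Fintype F] {L : Type*} [Field L] [Fintype L] {ψ : F →+* L} {c : L} {hc : c * c = -1} {k : ℕ}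
    {K : Subgroup (GL (Fin (l + l)) L)} (B : ThetaBase ψ c hc (l + l) k K) (hl : 4 ≤ l) (hl2 : 2 ∣ l)
    {R H : Subgroup (GL ι F)} (D : Data R) (hR : R ≤ Cfsg.spGL (l + l) F) (hcard : Nat.card R = 2 ^ (1 + 2 * k))
    (hJ : unitJ (l + l) F ∈ R) (hlow : subgroupNormalizer R ⊓ Cfsg.spGL (l + l) F ≤ H)
    (hhigh : H ≤ Cfsg.spGL (l + l) F)
    (hplus : ∀ g ∈ H, ∀ u ∈ R, u ∉ scalars ι F → u * u = 1 → g * u = u * g → g ∈ subgroupNormalizer R)
    {g : GL ι F} (hgH : g ∈ H) (hgJ : g * unitJ (l + l) F = unitJ (l + l) F * g) :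
    g ∈ subgroupNormalizer R := by
  classical
  haveI : Nonempty (Fin (l + l)) := ⟨⟨0, by omega⟩⟩
  haveI : Nonempty (Fin l ⊕ Fin l) := ⟨Sum.inl ⟨0, by omega⟩⟩
  haveI : Nonempty ι := ⟨Sum.inl ⟨0, by omega⟩⟩
  have h8 : 8 ≤ Fintype.card ι := by simp; omega
  have hgC : g ∈ centJ (l + l) F := mem_centJ.2 ⟨hhigh hgH, hgJ⟩
  obtain ⟨θ, hθ⟩ : ∃ θ : ↥(centJ (l + l) F) →* GL (Fin (l + l)) L, θ = theta ψ c hc := ⟨_, rfl⟩
  have hinj : Function.Injective θ := hθ ▸ theta_injective hc D.two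
  let RC : Subgroup ↥(centJ (l + l) F) := R.subgroupOf (centJ (l + l) F)
  obtain ⟨S, hS⟩ : ∃ S, S = RC.map θ := ⟨_, rfl⟩
  have memS : ∀ {g : ↥(centJ (l + l) F)}, θ g ∈ S ↔ (g : GL ι F) ∈ R := fun {g} => by
    rw [hS]
    exact ⟨fun ⟨z, hz, e⟩ => hinj e ▸ hz, fun h => ⟨g, h, rfl⟩⟩
  have hJC := unitJ_mem (m := l + l) (F := F)
  have hJns : unitJ (l + l) F ∉ scalars ι F := fun h => by
    obtain ⟨k, hk⟩ := (mem_scalars_iff _).1 h
    have := congrFun (congrFun hk (Sum.inr ⟨0, by omega⟩)) (Sum.inl ⟨0, by omega⟩)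
    simp [unitJ, Matrix.J] at this
  have hsub : ∀ {z}, z ∈ R → z * unitJ (l + l) F = unitJ (l + l) F * z → z ∈ centJ (l + l) F := fun hz h => mem_centJ.2 ⟨hR hz, h⟩
  -- the image is absolutely irreducible
  have hspan : Submodule.span L (matrixSet S) = ⊤ := by
    let π : Matrix ι ι F →ₗ[F] Matrix ι ι F :=
      { toFun := fun M => (2 : F)⁻¹ • (M + mat (unitJ (l + l) F) * M * mat (unitJ (l + l) F)⁻¹)
        map_add' := fun M N => by simp only [Matrix.mul_add, Matrix.add_mul, smul_add]; abel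
        map_smul' := fun k M => by
          simp only [Matrix.mul_smul, Matrix.smul_mul, RingHom.id_apply, smul_smul, mul_comm k, ← smul_add] }
    let Φ : Matrix ι ι F → Matrix (Fin (l + l)) (Fin (l + l)) L := thetaMat ψ c
    have hΦadd : ∀ M N, Φ (M + N) = Φ M + Φ N := fun M N => by
      ext i j; simp [Φ, thetaMat, toBlocks₁₁, toBlocks₁₂]; ring
    have hΦsmul : ∀ (k : F) M, Φ (k • M) = ψ k • Φ M := fun k M => by
      ext i j; simp [Φ, thetaMat, toBlocks₁₁, toBlocks₁₂]; ring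
    have key : ∀ M ∈ Submodule.span F (matrixSet R), Φ (π M) ∈ Submodule.span L (matrixSet S) := by
      intro M hM
      induction hM using Submodule.span_induction with
      | mem M hM =>
        obtain ⟨z, hz, rfl⟩ := hM
        rcases D.comm _ hJ z hz with e | e
        · have e' : π (mat z) = mat z := by
            show (2 : F)⁻¹ • (mat z + _) = _
            rw [← Units.val_mul, ← Units.val_mul, e, mul_inv_cancel_right, ← two_smul F (mat z), smul_smul,
              inv_mul_cancel₀ D.two, one_smul]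
          rw [e']
          refine Submodule.subset_span ⟨θ ⟨z, hsub hz e.symm⟩, memS.2 hz, ?_⟩
          rw [hθ]; rfl
        · have e' : π (mat z) = 0 := by
            show (2 : F)⁻¹ • (mat z + _) = _
            rw [← Units.val_mul, ← Units.val_mul, e, neg_mul, mul_inv_cancel_right, Units.val_neg, add_neg_cancel,
              smul_zero]
          rw [e', show Φ 0 = 0 by simpa using hΦsmul 0 0]
          exact Submodule.zero_mem _
      | zero => rw [map_zero, show Φ 0 = 0 by simpa using hΦsmul 0 0]; exact Submodule.zero_mem _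
      | add M N _ _ h1 h2 => rw [map_add, hΦadd]; exact Submodule.add_mem _ h1 h2
      | smul k M _ h => rw [map_smul, hΦsmul]; exact Submodule.smul_mem _ _ h
    have hE : ∀ i j, Matrix.single i j (1 : L) ∈ Submodule.span L (matrixSet S) := fun i j => by
      obtain ⟨E, hE⟩ : ∃ E : Matrix ι ι F, E = fromBlocks (Matrix.single i j 1) 0 0 (Matrix.single i j 1) :=
        ⟨_, rfl⟩
      have hπE : π E = E := by
        show (2 : F)⁻¹ • (E + _) = E
        have : mat (unitJ (l + l) F) * E * mat (unitJ (l + l) F)⁻¹ = E := by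
          rw [hE]; simp [unitJ, Matrix.J, fromBlocks_multiply, fromBlocks_neg]
        rw [this, ← two_smul F E, smul_smul, inv_mul_cancel₀ D.two, one_smul]
      have hΦE : Φ E = Matrix.single i j 1 := by
        ext a b
        simp [Φ, thetaMat, hE, toBlocks₁₁, toBlocks₁₂, Matrix.single_apply, apply_ite ψ]
      rw [← hΦE, ← hπE]
      refine key _ ?_
      rw [CfsgLib.Aschbacher.span_eq_top_of_absIrred D.abs]
      trivial
    rw [eq_top_iff]
    intro M _
    rw [Matrix.matrix_eq_sum_single M]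
    refine Submodule.sum_mem _ fun i _ => Submodule.sum_mem _ fun j _ => ?_
    rw [show Matrix.single i j (M i j) = M i j • Matrix.single i j (1 : L) by simp]
    exact Submodule.smul_mem _ _ (hE i j)
  have habs : ActsAbsolutelyIrreducibly (matrixSet S) := by
    refine ⟨fun W hW => ?_, fun M hM => ?_⟩
    · by_cases hb : W = ⊥
      · exact Or.inl hb
      obtain ⟨w, hw, hw0⟩ := Submodule.exists_mem_ne_zero_of_ne_bot hb
      have hall : ∀ (A : Matrix (Fin (l + l)) (Fin (l + l)) L), ∀ v ∈ W, A *ᵥ v ∈ W := fun A => by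
        have hA : A ∈ Submodule.span L (matrixSet S) := by rw [hspan]; trivial
        induction hA using Submodule.span_induction with
        | mem A hA => intro v hv; rw [← toLin'_apply]; exact hW A hA ⟨v, hv, rfl⟩
        | zero => intro v _; rw [zero_mulVec]; exact W.zero_mem
        | add A B _ _ h1 h2 => intro v hv; rw [add_mulVec]; exact W.add_mem (h1 v hv) (h2 v hv)
        | smul k A _ h => intro v hv; rw [smul_mulVec]; exact W.smul_mem k (h v hv)
      obtain ⟨i, hi⟩ := Function.ne_iff.1 hw0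
      refine Or.inr (eq_top_iff.2 fun v _ => ?_)
      have := hall (Matrix.vecMulVec v (Pi.single i (w i)⁻¹)) w hw
      rwa [vecMulVec_mulVec, single_dotProduct, inv_mul_cancel₀ hi, MulOpposite.op_one, one_smul] at this
    · have hall : ∀ A : Matrix (Fin (l + l)) (Fin (l + l)) L, Commute M A := fun A => by
        have hA : A ∈ Submodule.span L (matrixSet S) := by rw [hspan]; trivial
        induction hA using Submodule.span_induction with
        | mem A hA => exact hM A hA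
        | zero => exact Commute.zero_right M
        | add A B _ _ h1 h2 => exact h1.add_right h2
        | smul k A _ h => exact h.smul_right k
      obtain ⟨k, hk⟩ := Matrix.mem_range_scalar_iff_commute_single'.2 fun i j => (hall _).symm
      exact ⟨k, by rw [← hk, Matrix.scalar_apply, Matrix.smul_one_eq_diagonal]⟩
  have h2L : (2 : L) ≠ 0 := by rw [← map_ofNat ψ 2]; exact (map_ne_zero _).2 D.two
  have hθneg : θ ⟨unitJ (l + l) F * unitJ (l + l) F, mul_mem hJC hJC⟩ = -1 := Units.ext (by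
    rw [hθ, theta_val]
    show thetaMat ψ c (mat (unitJ (l + l) F * unitJ (l + l) F)) = _
    rw [unitJ_sq, Units.val_neg, Units.val_one, Units.val_neg, Units.val_one]
    ext i j
    by_cases h : i = j <;> simp [thetaMat, toBlocks₁₁, toBlocks₁₂, h])
  have DS : Data S := by
    refine ⟨h2L, habs, ?_, ?_, ?_⟩
    · rw [← hθneg, memS]; exact R.mul_mem hJ hJ
    · intro x hx
      rw [hS] at hx
      obtain ⟨z, hz, rfl⟩ := hx
      rcases D.sq _ hz with e | e
      · left; rw [← map_mul, ← map_one θ]; exact congrArg θ (Subtype.ext e)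
      · right; rw [← map_mul, ← hθneg]; exact congrArg θ (Subtype.ext (e.trans unitJ_sq.symm))
    · intro x hx y hy
      rw [hS] at hx hy
      obtain ⟨a, ha, rfl⟩ := hx
      obtain ⟨b, hb, rfl⟩ := hy
      rcases D.comm _ ha _ hb with e | e
      · left; rw [← map_mul, ← map_mul]; exact congrArg θ (Subtype.ext e)
      · right
        rw [← map_mul, ← neg_one_mul, ← hθneg, ← map_mul, ← map_mul]
        refine congrArg θ (Subtype.ext ?_)
        show (a : GL ι F) * b = unitJ (l + l) F * unitJ (l + l) F * ((b : GL ι F) * a)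
        rw [unitJ_sq, neg_one_mul]
        exact e
  obtain ⟨j, hjdef⟩ : ∃ j, j = θ ⟨unitJ (l + l) F, hJC⟩ := ⟨_, rfl⟩
  have hjS : j ∈ S := hjdef ▸ memS.2 hJ
  have hc0 : c ≠ 0 := fun e => by simp [e] at hc
  have hjs : j ∈ scalars (Fin (l + l)) L := (mem_scalars_iff _).2 ⟨Units.mk0 (-c) (neg_ne_zero.2 hc0), by
    rw [hjdef, hθ]; exact theta_unitJ hc⟩
  have hj2 : j * j = -1 := by rw [hjdef, ← map_mul, ← hθneg]; rfl
  -- the element `y` off the centraliser
  obtain ⟨y, hy, hyJ⟩ := D.exists_anti hJ hJns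
  have hyJ' : y * unitJ (l + l) F = -(unitJ (l + l) F * y) := by rw [hyJ, neg_neg]
  have hScard : Nat.card S = 2 ^ (2 * k) := by
    have e1 : Nat.card S = Nat.card RC := by
      rw [hS]; exact (Nat.card_congr (RC.equivMapOfInjective θ hinj).toEquiv).symm
    let f : RC × Bool → R := fun p => cond p.2 ⟨((p.1 : ↥(centJ (l + l) F)) : GL ι F), p.1.2⟩
      ⟨y * ((p.1 : ↥(centJ (l + l) F)) : GL ι F), R.mul_mem hy p.1.2⟩
    have hanti : ∀ {z : GL ι F}, z * unitJ (l + l) F = unitJ (l + l) F * z → y * z * unitJ (l + l) F = -(unitJ (l + l) F * (y * z)) :=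
      fun {z} hz => by rw [mul_assoc, hz, ← mul_assoc, hyJ', neg_mul, mul_assoc]
    have hf : Function.Bijective f := by
      refine ⟨?_, fun x => ?_⟩
      · rintro ⟨a, e⟩ ⟨b, e'⟩ hab
        have hab' := congrArg Subtype.val hab
        have ca := (mem_centJ.1 (a : ↥(centJ (l + l) F)).2).2
        have cb := (mem_centJ.1 (b : ↥(centJ (l + l) F)).2).2
        cases e <;> cases e' <;> simp only [f, cond_true, cond_false] at hab'
        · rw [show a = b from Subtype.ext (Subtype.ext (mul_left_cancel hab'))]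
        · exact absurd ((hanti ca).symm.trans (by rw [hab', cb])) (fun h => ne_neg D.two _ h.symm)
        · exact absurd ((hanti cb).symm.trans (by rw [← hab', ca])) (fun h => ne_neg D.two _ h.symm)
        · rw [show a = b from Subtype.ext (Subtype.ext hab')]
      · obtain ⟨x, hx⟩ := x
        rcases D.comm x hx _ hJ with e | e
        · exact ⟨(⟨⟨x, hsub hx e⟩, hx⟩, true), rfl⟩
        · have hyx := R.mul_mem (R.inv_mem hy) hx
          have hcomm : y⁻¹ * x * unitJ (l + l) F = unitJ (l + l) F * (y⁻¹ * x) := by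
            rw [mul_assoc, e, mul_neg, ← mul_assoc, ← mul_assoc, ← neg_mul]
            congr 1
            refine mul_left_cancel (a := y) ?_
            rw [mul_neg, mul_inv_cancel_left, ← mul_assoc, hyJ', neg_mul, mul_inv_cancel_right]
          exact ⟨(⟨⟨y⁻¹ * x, hsub hyx hcomm⟩, hyx⟩, false), Subtype.ext (mul_inv_cancel_left y x)⟩
    have e2 := Nat.card_eq_of_bijective f hf
    rw [hcard, add_comm 1, Nat.card_prod, Nat.card_eq_fintype_card (α := Bool), Fintype.card_bool] at e2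
    rw [pow_succ'] at e2
    omega
  have mem_scalarsDet : ∀ {x : GL (Fin (l + l)) L}, x ∈ S → (mat x).det = 1 := fun {x} hx =>
    DS.det_eq_one hjS hjs hj2 (by rw [Fintype.card_fin]; omega) hx
  have hSK : S ≤ K := fun x hx => by
    have hd : (mat x).det = 1 := mem_scalarsDet hx
    rw [hS] at hx
    obtain ⟨z, -, rfl⟩ := hx
    exact hθ ▸ B.mem z (hθ ▸ hd)
  have hmax := B.base S DS ⟨j, hjS, hjs, hj2⟩ hScard hSK
  have A := ambient_sp D.two hR
  -- the image of the overgroup, with the scalars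
  let T : Subgroup (GL (Fin (l + l)) L) :=
    { carrier := {a | ∃ h : ↥(centJ (l + l) F), (h : GL ι F) ∈ H ∧ ∃ s ∈ scalars (Fin (l + l)) L, a = θ h * s}
      one_mem' := ⟨1, H.one_mem, 1, one_mem _, by rw [map_one, mul_one]⟩
      mul_mem' := by
        rintro _ _ ⟨h, hh, s, hs, rfl⟩ ⟨h', hh', s', hs', rfl⟩
        refine ⟨h * h', H.mul_mem hh hh', s * s', mul_mem hs hs', ?_⟩
        rw [map_mul, show θ h * s * (θ h' * s') = θ h * (s * θ h') * s' by group, scalar_comm hs]
        group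
      inv_mem' := by
        rintro _ ⟨h, hh, s, hs, rfl⟩
        exact ⟨h⁻¹, H.inv_mem hh, s⁻¹, inv_mem hs, by rw [_root_.mul_inv_rev, scalar_comm (inv_mem hs), map_inv]⟩ }
  have hmemT : ∀ h : ↥(centJ (l + l) F), (h : GL ι F) ∈ H → θ h ∈ T := fun h hh =>
    ⟨h, hh, 1, one_mem _, (mul_one _).symm⟩
  -- the transvections are images, up to scalars
  have hpair : ∀ {v : GL (Fin (l + l)) L}, v ∈ S → v * v = -1 → v ∉ scalars (Fin (l + l)) L →
      ∀ t : GL (Fin (l + l)) L, mat t = 1 + mat v →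
      ∃ γ : ↥(centJ (l + l) F), (γ : GL ι F) ∈ subgroupNormalizer R ⊓ Cfsg.spGL (l + l) F ∧
        ∃ e ∈ scalars (Fin (l + l)) L, t = e * θ γ := by
    intro v hv hv2 hvns t ht
    rw [hS] at hv
    obtain ⟨z, hz, rfl⟩ := hv
    obtain ⟨γ, hγ, hγC, t₁, t₂, ht₁, ht₂, h2, k, hk, hγk⟩ : ∃ γ, γ ∈ subgroupNormalizer R ⊓ Cfsg.spGL (l + l) F ∧
        ∃ _ : γ ∈ centJ (l + l) F, ∃ t₁ t₂ : GL ι F, mat t₁ = 1 + mat (z : GL ι F) ∧
          mat t₂ = 1 + mat (unitJ (l + l) F) ∧ t₂ * unitJ (l + l) F = unitJ (l + l) F * t₂ ∧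
          ∃ k ∈ scalars ι F, γ = k * (t₁ * t₂) := by
      have hz2 : (z : GL ι F) * z = -1 := by
        rw [← map_mul, ← hθneg] at hv2
        exact (congrArg Subtype.val (hinj hv2)).trans unitJ_sq
      have hzns : (z : GL ι F) ∉ scalars ι F := fun h => by
        rcases scalar_sp (by omega) h (hR hz) with e | e <;> rw [e] at hz2
        · exact ne_neg D.two _ (by simpa using hz2)
        · exact ne_neg D.two _ (by simpa using hz2)
      obtain ⟨n, hn, s, hs, hns⟩ := D.trans_root h8 A hz hJ hz2 unitJ_sq hzns hJns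
      obtain ⟨t₁, t₂, γ, ht₁, ht₂, hγ, k, hk, hγk⟩ :=
        D.exists_pair A hz hJ hz2 unitJ_sq hzns ⟨n, D.sign_of_conj hz hJ (unitJ_sq.trans hz2.symm) hs hns⟩
      have hzJ := (mem_centJ.1 z.2).2
      have h1 : t₁ * unitJ (l + l) F = unitJ (l + l) F * t₁ := tv_comm ht₁ hzJ
      have h2 : t₂ * unitJ (l + l) F = unitJ (l + l) F * t₂ := tv_comm ht₂ rfl
      have hγC : γ ∈ centJ (l + l) F := mem_centJ.2 ⟨hγ.2, by
        rw [hγk, mul_assoc, mul_assoc t₁, h2, ← mul_assoc t₁, h1, mul_assoc, ← mul_assoc k, scalar_comm hk,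
          mul_assoc]⟩
      exact ⟨γ, hγ, hγC, t₁, t₂, ht₁, ht₂, h2, k, hk, hγk⟩
    obtain ⟨δ, hδ⟩ : ∃ δ, δ = θ ⟨γ, hγC⟩ := ⟨_, rfl⟩
    obtain ⟨e, he, hte⟩ : ∃ e ∈ scalars (Fin (l + l)) L, t = e * δ := by
      obtain ⟨kc, hkc⟩ := (mem_scalars_iff k).1 hk
      have hval : mat δ = (ψ (kc : F) * (1 - c)) • mat t := by
        rw [hδ, hθ, theta_val]
        show thetaMat ψ c (mat γ) = _
        rw [hγk, Units.val_mul, Units.val_mul, hkc, Matrix.smul_mul, Matrix.one_mul]
        have hsm : thetaMat ψ c ((kc : F) • (mat t₁ * mat t₂)) =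
            ψ (kc : F) • thetaMat ψ c (mat t₁ * mat t₂) := by
          ext i j; simp [thetaMat, toBlocks₁₁, toBlocks₁₂]; ring
        rw [hsm, thetaMat_mul hc h2, mul_smul]
        congr 1
        have hlin : ∀ u : GL ι F, thetaMat ψ c (1 + mat u) = 1 + thetaMat ψ c (mat u) := fun u => by
          ext i j; by_cases h : i = j <;> simp [thetaMat, toBlocks₁₁, toBlocks₁₂, h] <;> ring
        rw [ht₁, ht₂, hlin, hlin, ht, show thetaMat ψ c (mat (unitJ (l + l) F)) = (-c) • (1 : Matrix (Fin (l + l)) (Fin (l + l)) L)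
          from theta_unitJ (ψ := ψ) hc, show mat (θ z) = thetaMat ψ c (mat (z : GL ι F)) by rw [hθ]; rfl,
          Matrix.mul_add, Matrix.mul_one, Matrix.mul_smul, Matrix.mul_one]
        module
      have h1c : ψ (kc : F) * (1 - c) ≠ 0 := fun h => δ.ne_zero (by rw [hval, h, zero_smul])
      refine ⟨t * δ⁻¹, ?_, by group⟩
      refine (mem_scalars_iff _).2 ⟨Units.mk0 _ (inv_ne_zero h1c), ?_⟩
      rw [Units.val_mk0]
      have : mat t = (ψ (kc : F) * (1 - c))⁻¹ • mat δ := by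
        rw [hval, smul_smul, inv_mul_cancel₀ h1c, one_smul]
      rw [Units.val_mul, this, Matrix.smul_mul, Units.mul_inv]
    exact ⟨⟨γ, hγC⟩, hγ, e, he, hδ ▸ hte⟩
  let Y : Subgroup (GL (Fin (l + l)) L) := T ⊓ K
  have hN : subgroupNormalizer S ⊓ K ≤ Y := by
    refine le_inf (inf_le_left.trans (normalizer_le DS hjS hjs hj2 (fun s hs => ⟨1, H.one_mem, s, hs, by
      rw [map_one, one_mul]⟩) (fun x hx => ?_) fun v hv hv2 hvns t ht => ?_)) inf_le_right
    · rw [hS] at hx
      obtain ⟨z, hz, rfl⟩ := hx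
      exact hmemT z (hlow ⟨Subgroup.le_normalizer hz, hR hz⟩)
    · obtain ⟨γ, hγ, e, he, hte⟩ := hpair hv hv2 hvns t ht
      exact ⟨γ, hlow hγ, e, he, by rw [hte, scalar_comm he]⟩
  rcases hmax.2 Y hN inf_le_right with hX | hX
  swap
  · -- the image is full
    exfalso
    obtain ⟨o, ho, o', ho', e1, -, e3, -, e5⟩ :=
      D.exists_orth_anti h8 hJ hy hJns (D.ns_of_bit (y := unitJ (l + l) F) ((D.bit_eq_one hy hJ).2 hyJ'))
        (fun h => by
          have := scalar_comm h (unitJ (l + l) F)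
          rw [mul_assoc, hyJ', mul_neg, inv_mul_cancel_left, ← mul_assoc, mul_inv_cancel, one_mul] at this
          exact ne_neg D.two _ this.symm)
    have toPlus : ∀ {o o' : GL ι F}, o ∈ R → bit o (unitJ (l + l) F) = 0 → bit o o' = 1 → o' ∈ R →
        bit o' (unitJ (l + l) F) = 0 → ∃ u ∈ R, u * u = 1 ∧ bit u (unitJ (l + l) F) = 0 ∧ bit u o' = 1 := by
      intro o o' ho e1 e5 ho' e3
      rcases D.sq o ho with h | h
      · exact ⟨o, ho, h, e1, e5⟩
      · refine ⟨o * unitJ (l + l) F, R.mul_mem ho hJ, ?_, ?_, ?_⟩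
        · rw [mul_assoc, ← mul_assoc (unitJ (l + l) F), ← bit_eq_zero.1 e1, mul_assoc o (unitJ (l + l) F), unitJ_sq,
            ← mul_assoc, h, neg_mul_neg, one_mul]
        · rw [D.bit_mul ho hJ hJ, e1, bit_self, add_zero]
        · rw [D.bit_mul ho hJ ho', e5, bit_comm, e3, add_zero]
    obtain ⟨u, hu, hu2, huJ, huo'⟩ := toPlus ho e1 e5 ho' e3
    obtain ⟨y0, hy0, hy02, hy0J, hy0u⟩ := toPlus ho' e3 (by rwa [bit_comm]) hu huJ
    have huns := D.ns_of_bit huo'
    obtain ⟨M, N, hMN, hNM, hsg, hsw, hM, E, hle⟩ :=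
      exists_split D hR hu hy0 hu2 hy02 ((D.bit_eq_one hu hy0).1 (by rwa [bit_comm]))
    obtain ⟨φ, hφ⟩ : ∃ φ, φ = coordEquiv M N hMN hNM := ⟨_, rfl⟩
    obtain ⟨x₀, hx₀⟩ := φ.surjective (unitJ (l + l) F)
    rw [← hφ] at hsg hsw E hle
    have hneg : ∀ z, φ (-z) = -φ z := fun z => by rw [hφ]; exact neg_coordEquiv z
    have hx₀R : x₀ ∈ R.comap φ.toMonoidHom := by
      show φ x₀ ∈ R
      rw [hx₀]; exact hJ
    have D' := E.small_data
    obtain ⟨v, hv, hxv⟩ : ∃ v ∈ small (R.comap φ.toMonoidHom), x₀ = bd (v, v) := by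
      obtain ⟨v, hv, e | e⟩ := E.comm_cases hx₀R (φ.injective (by
        rw [map_mul, map_mul, hx₀, hsg, bit_eq_zero.1 huJ]))
      · exact ⟨v, hv, e⟩
      · exfalso
        have h1 : x₀ * sw = sw * x₀ := φ.injective (by rw [map_mul, map_mul, hx₀, hsw, bit_eq_zero.1 hy0J])
        rw [e, sw_bd, mul_left_inj, bd_inj] at h1
        exact ne_neg D'.two _ h1.1
    have hv2 : v * v = -1 := by
      have h1 : x₀ * x₀ = -1 := φ.injective (by rw [map_mul, hx₀, unitJ_sq, hneg, map_one])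
      rw [hxv, bd_mul, ← map_one bd, ← Prod.mk_one_one, ← bd_neg, bd_inj] at h1
      exact h1.1
    have hsmall : small (R.comap φ.toMonoidHom) ≤ Cfsg.spGL l F := fun _ ha => (bd_mem_pairSp.1 (hle ha)).1
    have nsroot : ∀ {z : GL κ F}, z ∈ small (R.comap φ.toMonoidHom) → z * z = -1 → z ∉ scalars κ F :=
      fun {z} hz hz2 hs => by
        rcases scalar_sp (by omega) hs (hsmall hz) with e | e <;> rw [e] at hz2 <;>
          exact ne_neg D'.two _ (by simpa using hz2)
    have h8' : 8 ≤ Fintype.card κ := by simp; omega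
    obtain ⟨w, hw, hvw⟩ := D'.exists_anti hv (nsroot hv hv2)
    obtain ⟨q, hq, q', hq', f1, -, f3, -, f5⟩ :=
      D'.exists_orth_anti h8' hv hw (nsroot hv hv2) (D'.ns_of_bit (y := v) (by
        rw [bit_comm]; exact (D'.bit_eq_one hv hw).2 hvw)) (fun h => by
          have := scalar_comm h v
          rw [mul_assoc, show w * v = -(v * w) by rw [hvw, neg_neg], mul_neg, inv_mul_cancel_left, ← mul_assoc,
            mul_inv_cancel, one_mul] at this
          exact ne_neg D'.two _ this.symm)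
    have toRoot : ∀ {o o' : GL κ F}, o ∈ small (R.comap φ.toMonoidHom) → bit o v = 0 → bit o o' = 1 →
        o' ∈ small (R.comap φ.toMonoidHom) → bit o' v = 0 →
        ∃ a ∈ small (R.comap φ.toMonoidHom), a * a = -1 ∧ bit a v = 0 ∧ bit a o' = 1 := by
      intro o o' ho e1 e5 ho' e3
      rcases D'.sq o ho with h | h
      · refine ⟨o * v, mul_mem ho hv, ?_, ?_, ?_⟩
        · rw [mul_assoc, ← mul_assoc v, ← bit_eq_zero.1 e1, mul_assoc o v, hv2, ← mul_assoc, h, one_mul]
        · rw [D'.bit_mul ho hv hv, e1, bit_self, add_zero]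
        · rw [D'.bit_mul ho hv ho', e5, bit_comm, e3, add_zero]
      · exact ⟨o, ho, h, e1, e5⟩
    obtain ⟨a, ha, ha2, hav, haq⟩ := toRoot hq f1 f5 hq' f3
    obtain ⟨b, hb, hb2, hbv, hba⟩ := toRoot hq' f3 (by rwa [bit_comm]) ha hav
    have A' := ambient_sp D'.two hsmall
    have mkT : ∀ {a : GL κ F}, a ∈ small (R.comap φ.toMonoidHom) → a * a = -1 → bit a v = 0 →
        ∃ tv ta T : GL κ F, mat tv = 1 + mat v ∧ mat ta = 1 + mat a ∧ T ∈ Cfsg.spGL l F ∧
          T * v = v * T ∧ ∃ s ∈ scalars κ F, T = s * (tv * ta) := by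
      intro a ha ha2 hav
      obtain ⟨n, -, s, hs, hns⟩ := D'.trans_root h8' A' hv ha hv2 ha2 (nsroot hv hv2) (nsroot ha ha2)
      obtain ⟨tv, ta, γ, htv, hta, hγ, s', hs', hγs⟩ := D'.exists_pair A' hv ha hv2 ha2 (nsroot hv hv2)
        ⟨n, D'.sign_of_conj hv ha (ha2.trans hv2.symm) hs hns⟩
      refine ⟨tv, ta, γ, htv, hta, hγ.2, ?_, s', hs', hγs⟩
      rw [hγs, mul_assoc, mul_assoc tv, tv_comm hta (bit_eq_zero.1 hav), ← mul_assoc tv, tv_comm htv rfl, mul_assoc v,
        ← mul_assoc s', scalar_comm hs', mul_assoc]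
    obtain ⟨tv, ta, T₁, htv', hta, hT₁, hT₁v, s₁, hs₁, eT₁⟩ := mkT ha ha2 hav
    obtain ⟨tv', tb, T₂, htv'', htb, hT₂, hT₂v, s₂, hs₂, eT₂⟩ := mkT hb hb2 hbv
    obtain rfl : tv = tv' := Units.ext (htv'.trans htv''.symm)
    obtain ⟨b', hb'⟩ : ∃ b', b' = ⁅T₁, T₂⁆ := ⟨_, rfl⟩
    -- the commutator moves the class of `a`
    have hb'a : b' * a * b'⁻¹ = a * b := by
      have hca : tv * ta = ta * tv := tv_comm htv' (tv_comm hta (bit_eq_zero.1 hav)).symm
      have hcb : tv * tb = tb * tv := tv_comm htv' (tv_comm htb (bit_eq_zero.1 hbv)).symm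
      have hcomm : ⁅tv * ta, tv * tb⁆ = ⁅ta, tb⁆ := by
        have c1 : tv * ta * (tv * tb) = tv * tv * (ta * tb) := by
          rw [mul_assoc tv ta, ← mul_assoc ta, ← hca]; group
        have c2 : tv * tb * (tv * ta) = tv * tv * (tb * ta) := by
          rw [mul_assoc tv tb, ← mul_assoc tb, ← hcb]; group
        rw [commutatorElement_def, commutatorElement_def,
          show tv * ta * (tv * tb) * (tv * ta)⁻¹ * (tv * tb)⁻¹ =
            tv * ta * (tv * tb) * (tv * tb * (tv * ta))⁻¹ by group, c1, c2]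
        have cc : ∀ x : GL κ F, tv * x = x * tv → tv * tv * x = x * (tv * tv) := fun x h => by
          rw [mul_assoc, h, ← mul_assoc, h, mul_assoc]
        rw [cc _ (by rw [← mul_assoc, hca, mul_assoc, hcb, ← mul_assoc]),
          cc _ (by rw [← mul_assoc, hcb, mul_assoc, hca, ← mul_assoc])]
        group
      have e : b' = ⁅ta, tb⁆ := by
        rw [hb', ← hcomm, eT₁, eT₂, commutatorElement_def, commutatorElement_def,
          show s₁ * (tv * ta) * (s₂ * (tv * tb)) * (s₁ * (tv * ta))⁻¹ * (s₂ * (tv * tb))⁻¹ =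
            s₁ * ((tv * ta) * (s₂ * ((tv * tb) * (tv * ta)⁻¹ * s₁⁻¹ * (tv * tb)⁻¹)) * s₂⁻¹) by group,
          show ∀ x, tv * tb * (tv * ta)⁻¹ * s₁⁻¹ * x = s₁⁻¹ * (tv * tb * (tv * ta)⁻¹) * x from fun x => by
            rw [← scalar_comm (inv_mem hs₁)]]
        rw [show s₂ * (s₁⁻¹ * (tv * tb * (tv * ta)⁻¹) * (tv * tb)⁻¹) =
          (s₁⁻¹ * (tv * tb * (tv * ta)⁻¹) * (tv * tb)⁻¹) * s₂ from scalar_comm hs₂ _,
          show ∀ x, tv * ta * (s₁⁻¹ * x * (tv * tb)⁻¹ * s₂) = (tv * ta * s₁⁻¹) * (x * (tv * tb)⁻¹ * s₂) from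
            fun x => by group, ← scalar_comm (inv_mem hs₁)]
        group
      have hanti : b * a = -(a * b) := (D'.bit_eq_one hb ha).1 hba
      have hanti' : a * b = -(b * a) := by rw [hanti, neg_neg]
      have hc2 : b * a * (b * a) = -1 := by
        rw [mul_assoc, ← mul_assoc a, hanti', neg_mul, mul_assoc b a a, ha2]
        simp [hb2]
      obtain ⟨tc, htc⟩ := D'.exists_tv hc2
      have h1 : tb * ta * tb⁻¹ = tc := tv_conj hta (by rw [tv_anti htb hb2 hanti, mul_inv_cancel_right]) htc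
      have hbc : b * a * b = a := by rw [hanti, neg_mul, mul_assoc, hb2, mul_neg, mul_one, neg_neg]
      have h2 : tc * b * tc⁻¹ = a := by
        rw [tv_anti htc hc2 (show b * a * b = -(b * (b * a)) by
          rw [hbc, ← mul_assoc, hb2, neg_one_mul, neg_neg]), mul_inv_cancel_right, hbc]
      have h3 : tc⁻¹ * a * tc = b := by rw [← h2]; group
      rw [e, commutatorElement_def, show ta * tb * ta⁻¹ * tb⁻¹ * a * (ta * tb * ta⁻¹ * tb⁻¹)⁻¹ =
        ta * ((tb * ta * tb⁻¹)⁻¹ * a * (tb * ta * tb⁻¹)) * ta⁻¹ by group, h1, h3, tv_anti hta ha2 hanti',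
        mul_inv_cancel_right]
    have mkC : ∀ T : GL κ F, T ∈ Cfsg.spGL l F → T * v = v * T → φ (bd (1, T)) ∈ centJ (l + l) F :=
      fun T hT hTv => mem_centJ.2 ⟨by
        have : bd (1, T) ∈ (Cfsg.spGL (l + l) F).comap φ.toMonoidHom := by
          rw [hφ, spGL_comap M N hMN hNM hM]; exact bd_mem_pairSp.2 ⟨one_mem _, hT⟩
        exact this, by rw [← hx₀, ← map_mul, ← map_mul, hxv, bd_mul, bd_mul, one_mul, mul_one, hTv]⟩
    obtain ⟨P, hP⟩ : ∃ P : ↥(centJ (l + l) F),
        P = ⁅(⟨_, mkC T₁ hT₁ hT₁v⟩ : ↥(centJ (l + l) F)), ⟨_, mkC T₂ hT₂ hT₂v⟩⁆ := ⟨_, rfl⟩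
    have hPdet : (mat (θ P)).det = 1 := by
      have hdet : ∀ x : GL (Fin (l + l)) L, (mat x).det * (mat x⁻¹).det = 1 := fun x => by
        rw [← det_mul, ← Units.val_mul, mul_inv_cancel, Units.val_one, det_one]
      rw [hP, map_commutatorElement, commutatorElement_def, Units.val_mul, Units.val_mul, Units.val_mul, det_mul,
        det_mul, det_mul]
      linear_combination (mat (θ ⟨_, mkC T₂ hT₂ hT₂v⟩)).det * (mat (θ ⟨_, mkC T₂ hT₂ hT₂v⟩)⁻¹).det *
          hdet (θ ⟨_, mkC T₁ hT₁ hT₁v⟩) + hdet (θ ⟨_, mkC T₂ hT₂ hT₂v⟩)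
    obtain ⟨h, hh, s, hs, hPs⟩ : θ P ∈ T := by
      have : θ P ∈ Y := hX ▸ (hθ ▸ B.mem P (hθ ▸ hPdet))
      exact this.1
    have hPb : (P : GL ι F) = φ (bd (1, b')) := by
      rw [hP, show bd (1, b') = ⁅bd (1, T₁), bd (1, T₂)⁆ by rw [bd_commutator, hb', commutatorElement_one_left],
        map_commutatorElement]
      rfl
    have hPu : (P : GL ι F) * u = u * P := by
      rw [hPb, ← hsg, ← map_mul, ← map_mul, sg_comm_bd]
    have huC := hsub hu (bit_eq_zero.1 huJ)
    have hhu : (h : GL ι F) * u = u * (h : GL ι F) := by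
      refine congrArg Subtype.val (hinj ?_ : h * ⟨u, huC⟩ = ⟨u, huC⟩ * h)
      rw [map_mul, map_mul, show θ h = θ P * s⁻¹ by rw [hPs, mul_inv_cancel_right], mul_assoc,
        scalar_comm (inv_mem hs), ← mul_assoc, ← mul_assoc, ← map_mul, ← map_mul]
      exact congrArg (fun x => θ x * s⁻¹) (Subtype.ext hPu)
    have hhN := hplus _ hh u hu huns hu2 hhu
    have hy0C := hsub hy0 (bit_eq_zero.1 hy0J)
    have hΛy : ((h : GL ι F)⁻¹ * P) * y0 = y0 * ((h : GL ι F)⁻¹ * P) := by
      refine congrArg Subtype.val (hinj ?_ : h⁻¹ * P * ⟨y0, hy0C⟩ = ⟨y0, hy0C⟩ * (h⁻¹ * P))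
      simp only [map_mul, map_inv]
      rw [hPs, inv_mul_cancel_left, scalar_comm hs]
    obtain ⟨h', hh'⟩ := φ.surjective (h : GL ι F)
    obtain ⟨x, y', rfl⟩ := exists_bd_of_comm D.two (g := h') (φ.injective (by
      rw [map_mul, map_mul, hh', hsg]; exact hhu))
    have hxy : y' = b' * x := by
      have e : bd (x⁻¹, y'⁻¹ * b') * sw = sw * bd (x⁻¹, y'⁻¹ * b') := φ.injective (by
        rw [show bd (x⁻¹, y'⁻¹ * b') = (bd (x, y'))⁻¹ * bd (1, b') by rw [bd_inv, bd_mul, mul_one]]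
        simp only [map_mul, map_inv, hh', ← hPb, hsw]
        exact hΛy)
      rw [sw_bd, mul_left_inj, bd_inj] at e
      rw [show b' = y' * (y'⁻¹ * b') by group, ← e.1]
      group
    have hh'N : bd (x, y') ∈ subgroupNormalizer (R.comap φ.toMonoidHom) := by
      rw [hφ, ← normalizer_comap, Subgroup.mem_comap, ← hφ]
      exact hh'.symm ▸ hhN
    have hb'S : b' ∈ small (R.comap φ.toMonoidHom) := by
      have h1 := (Subgroup.mem_normalizer_iff.1 hh'N _).1 E.sw_mem
      have h2 := (R.comap φ.toMonoidHom).mul_mem h1 E.sw_mem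
      rw [bd_inv, mul_assoc (bd (x, y')), sw_bd, ← mul_assoc (bd (x, y')), bd_mul, mul_assoc, sw_sq, mul_one,
        hxy, mul_inv_cancel_right] at h2
      obtain ⟨a, ha, e | e⟩ := E.comm_cases h2 (sg_comm_bd _ _).symm <;> rw [bd_inj] at e
      · rw [e.2]; exact ha
      · rw [e.2]; exact D'.neg_mem ha
    refine nsroot hb hb2 ?_
    rcases D'.comm b' hb'S a ha with e | e <;> rw [e] at hb'a
    · rw [mul_inv_cancel_right] at hb'a
      rw [show b = a⁻¹ * (a * b) by group, ← hb'a, inv_mul_cancel]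
      exact one_mem _
    · rw [neg_mul, mul_inv_cancel_right] at hb'a
      rw [show b = a⁻¹ * (a * b) by group, ← hb'a, mul_neg, inv_mul_cancel]
      exact neg_one_mem_scalars
  -- the image normalises `S`
  obtain ⟨a, ha⟩ : ∃ a, a = θ ⟨g, hgC⟩ := ⟨_, rfl⟩
  have hXN : ∀ z : ↥(centJ (l + l) F), (z : GL ι F) ∈ H → (mat (θ z)).det = 1 → θ z ∈ subgroupNormalizer S :=
    fun z hz hd => by
      have : θ z ∈ Y := ⟨hmemT z hz, hθ ▸ B.mem z (hθ ▸ hd)⟩
      rw [hX] at this
      exact this.1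
  have haN : a ∈ subgroupNormalizer S := by
    refine DS.normalizer_of_projection hjS hjs hj2 (fun x hx => ?_) fun v hv hv2 hvns t ht => ?_
    · have hd : (mat x).det = 1 := mem_scalarsDet hx
      rw [hS] at hx
      obtain ⟨z, hz, rfl⟩ := hx
      rw [ha, ← map_inv, ← map_mul, ← map_mul]
      refine hXN _ ?_ ?_
      · exact H.mul_mem (H.mul_mem hgH (hlow ⟨Subgroup.le_normalizer hz, hR hz⟩)) (H.inv_mem hgH)
      · rw [map_mul, map_mul, map_inv, Units.val_mul, Units.val_mul, det_units_conj, hd]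
    · obtain ⟨γ, hγ, e, he, hte⟩ := hpair hv hv2 hvns t ht
      have hδN : θ γ ∈ subgroupNormalizer S := by
        refine mem_normalizer_of_forall fun x hx => ?_
        rw [hS] at hx
        obtain ⟨w, hw, rfl⟩ := hx
        rw [← map_inv, ← map_mul, ← map_mul, memS]
        exact (Subgroup.mem_normalizer_iff.1 hγ.1 _).1 hw
      have hcomm : a⁻¹ * θ γ * a * (θ γ)⁻¹ ∈ subgroupNormalizer S := by
        rw [ha, ← map_inv, ← map_inv, ← map_mul, ← map_mul, ← map_mul]
        refine hXN _ ?_ ?_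
        · exact H.mul_mem (H.mul_mem (H.mul_mem (H.inv_mem hgH) (hlow hγ)) hgH) (H.inv_mem (hlow hγ))
        · rw [map_mul, map_mul, map_mul, map_inv, map_inv, Units.val_mul, Units.val_mul, Units.val_mul, det_mul,
            det_units_conj', ← det_mul, Units.mul_inv, det_one]
      rw [hte, show a⁻¹ * (e * θ γ) * a = (a⁻¹ * e) * θ γ * a by group, ← scalar_comm he a⁻¹,
        show e * a⁻¹ * θ γ * a = e * (a⁻¹ * θ γ * a * (θ γ)⁻¹ * θ γ) by group]
      exact mul_mem (scalar_mem_normalizer he S) (mul_mem hcomm hδN)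
  -- move an involution back
  obtain ⟨o, ho, o', ho', e1, -, e3, -, e5⟩ :=
    D.exists_orth_anti h8 hJ hy hJns (D.ns_of_bit (y := unitJ (l + l) F) ((D.bit_eq_one hy hJ).2 hyJ'))
      (fun h => by
        have := scalar_comm h (unitJ (l + l) F)
        rw [mul_assoc, hyJ', mul_neg, inv_mul_cancel_left, ← mul_assoc, mul_inv_cancel, one_mul] at this
        exact ne_neg D.two _ this.symm)
  obtain ⟨u, hu, hu2, huJ, huns⟩ : ∃ u ∈ R, u * u = 1 ∧ u * unitJ (l + l) F = unitJ (l + l) F * u ∧ u ∉ scalars ι F := by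
    rcases D.sq o ho with h | h
    · exact ⟨o, ho, h, bit_eq_zero.1 e1, D.ns_of_bit e5⟩
    · refine ⟨o * unitJ (l + l) F, R.mul_mem ho hJ, ?_, ?_, D.ns_of_bit (y := o') ?_⟩
      · rw [mul_assoc, ← mul_assoc (unitJ (l + l) F), ← bit_eq_zero.1 e1, mul_assoc o (unitJ (l + l) F), unitJ_sq, ← mul_assoc,
          h, neg_mul_neg, one_mul]
      · rw [bit_eq_zero.1 e1, mul_assoc, bit_eq_zero.1 e1]
      · rw [D.bit_mul ho hJ ho', e5, bit_comm, e3, add_zero]
  have hgu : g * u * g⁻¹ ∈ R := by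
    have := (Subgroup.mem_normalizer_iff.1 haN _).1 ((memS (g := ⟨u, hsub hu huJ⟩)).2 hu)
    rw [ha, ← map_inv, ← map_mul, ← map_mul, memS] at this
    exact this
  have hguns : g * u * g⁻¹ ∉ scalars ι F := fun h => huns (by
    rw [show u = g⁻¹ * (g * u * g⁻¹) * g by group, ← scalar_comm h g⁻¹, inv_mul_cancel_right]; exact h)
  obtain ⟨n, hn, hnu⟩ := D.trans_plus A h8 hgu hu
    (by rw [show g * u * g⁻¹ * (g * u * g⁻¹) = g * (u * u) * g⁻¹ by group, hu2]; group) hu2 hguns huns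
  obtain ⟨w, hw, hwu⟩ := D.exists_anti hu huns
  have hngH : n * g ∈ H := H.mul_mem (hlow hn) hgH
  have hmain : n * g ∈ subgroupNormalizer R := by
    rcases hnu with e | e
    · refine hplus _ hngH u hu huns hu2 (mul_inv_eq_iff_eq_mul.1 ?_)
      rw [show n * g * u * (n * g)⁻¹ = n * (g * u * g⁻¹) * n⁻¹ by group, e]
    · have e' : n * g * u = -(u * (n * g)) := by
        rw [← neg_mul, ← mul_inv_eq_iff_eq_mul, show n * g * u * (n * g)⁻¹ = n * (g * u * g⁻¹) * n⁻¹ by group, e]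
      have := hplus (w * (n * g)) (H.mul_mem (hlow ⟨Subgroup.le_normalizer hw, hR hw⟩) hngH) u hu huns hu2 (by
        rw [mul_assoc, e', mul_neg, show u * (w * (n * g)) = u * w * (n * g) by group, hwu, neg_mul, mul_assoc w u])
      have hk := mul_mem (inv_mem (Subgroup.le_normalizer hw : w ∈ subgroupNormalizer R)) this
      rwa [inv_mul_cancel_left] at hk
  simpa using mul_mem ((subgroupNormalizer R).inv_mem hn.1) hmain

end CfsgLib.SympPow
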