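import Cfsg.Agent.SympPow.Rigid
import Cfsg.Agent.SympType.Fusion

/-!
# The classes of a group of symplectic type as a binary quadratic space; rigidity of the blocks
-/

set_option autoImplicit false
set_option linter.unusedSectionVars false

namespace CfsgLib.SympPow

open Matrix Cfsg.Geo CfsgLib.SympType
open scoped commutatorElement

local notation:max "mat" => Units.val

variable {ι : Type} [Fintype ι] [DecidableEq ι] {F : Type*} [Field F] [Nonempty ι] {S : Subgroup (GL ι F)}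

/-- The bits against `S`. -/
noncomputable def bits (S : Subgroup (GL ι F)) (x : GL ι F) : ↥S → ZMod 2 := fun y => bit x (y : GL ι F)

variable (D : Data S)
include D

/-- The classes. -/
noncomputable def classSpace : AddSubgroup (↥S → ZMod 2) where
  carrier := {f | ∃ x ∈ S, bits S x = f}
  zero_mem' := ⟨1, S.one_mem, funext fun y => bit_eq_zero.2 (by simp)⟩
  add_mem' := fun {f g} ⟨x, hx, hf⟩ ⟨y, hy, hg⟩ =>
    ⟨x * y, S.mul_mem hx hy, funext fun z => by
      rw [← hf, ← hg]; exact D.bit_mul hx hy z.2⟩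
  neg_mem' := fun {f} ⟨x, hx, hf⟩ => ⟨x, hx, by
    rw [hf]
    funext z
    exact ((by decide : ∀ c : ZMod 2, -c = c) (f z)).symm⟩

/-- A class. -/
noncomputable def cls {x : GL ι F} (hx : x ∈ S) : classSpace D := ⟨bits S x, x, hx, rfl⟩

/-- A representative. -/
noncomputable def rep (f : classSpace D) : GL ι F := f.2.choose

theorem rep_mem (f : classSpace D) : rep D f ∈ S := f.2.choose_spec.1

theorem cls_rep (f : classSpace D) : cls D (rep_mem D f) = f := Subtype.ext f.2.choose_spec.2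

theorem cls_mul {x y : GL ι F} (hx : x ∈ S) (hy : y ∈ S) : cls D (S.mul_mem hx hy) = cls D hx + cls D hy :=
  Subtype.ext (funext fun z => D.bit_mul hx hy z.2)

theorem cls_eq_iff {x y : GL ι F} (hx : x ∈ S) (hy : y ∈ S) :
    cls D hx = cls D hy ↔ x⁻¹ * y ∈ scalars ι F := by
  refine ⟨fun h => D.mem_scalar_mul hx hy fun w hw => congrFun (congrArg Subtype.val h) ⟨w, hw⟩,
    fun h => Subtype.ext (funext fun z => ?_)⟩
  show bit x (z : GL ι F) = bit y (z : GL ι F)
  have e := D.bit_mul hx (S.mul_mem (S.inv_mem hx) hy) z.2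
  rw [mul_inv_cancel_left, bit_eq_zero.2 (scalar_comm h (z : GL ι F)), add_zero] at e
  exact e.symm

/-- The pairing. -/
noncomputable def form (f g : classSpace D) : ZMod 2 := bit (rep D f) (rep D g)

theorem form_cls {x y : GL ι F} (hx : x ∈ S) (hy : y ∈ S) : form D (cls D hx) (cls D hy) = bit x y := by
  have h1 := congrFun (congrArg Subtype.val (cls_rep D (cls D hx))) ⟨_, rep_mem D (cls D hy)⟩
  have h2 := congrFun (congrArg Subtype.val (cls_rep D (cls D hy))) ⟨x, hx⟩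
  change bit (rep D (cls D hx)) (rep D (cls D hy)) = bit x (rep D (cls D hy)) at h1
  change bit (rep D (cls D hy)) x = bit y x at h2
  rw [form, h1, bit_comm, h2, bit_comm]

open Classical in
/-- The quadratic function. -/
noncomputable def quad (f : classSpace D) : ZMod 2 := if rep D f * rep D f = 1 then 0 else 1

omit D in
theorem sq_mul {x y : GL ι F} (h : x * y = y * x) : x * y * (x * y) = x * x * (y * y) := by
  rw [mul_assoc, ← mul_assoc y, ← h, mul_assoc x y y, ← mul_assoc]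

variable (hsc : ∀ s ∈ S, s ∈ scalars ι F → s * s = 1)
include hsc

theorem quad_cls {x : GL ι F} (hx : x ∈ S) : (x * x = 1 ↔ quad D (cls D hx) = 0) := by
  classical
  obtain ⟨y, hy⟩ : ∃ y, y = rep D (cls D hx) := ⟨_, rfl⟩
  have hyS : y ∈ S := hy ▸ rep_mem D _
  have hs : y⁻¹ * x ∈ scalars ι F := (cls_eq_iff D hyS hx).1 (by subst hy; rw [cls_rep])
  have e : x * x = y * y := by
    rw [show x = y * (y⁻¹ * x) by group, sq_mul (scalar_comm hs y).symm,
      hsc _ (S.mul_mem (S.inv_mem hyS) hx) hs, mul_one]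
  rw [quad, ← hy, e]
  split_ifs with h <;> simp [h]

theorem quad_cls_neg {x : GL ι F} (hx : x ∈ S) : x * x = -1 ↔ quad D (cls D hx) = 1 := by
  rcases D.sq x hx with h | h
  · rw [(quad_cls D hsc hx).1 h, h]
    simp [ne_neg D.two (1 : GL ι F)]
  · refine iff_of_true h (((by decide : ∀ c : ZMod 2, c ≠ 0 → c = 1)) _ fun e => ?_)
    rw [(quad_cls D hsc hx).2 e] at h
    exact ne_neg D.two (1 : GL ι F) h

theorem quad_rep {f : classSpace D} (h : quad D f = 1) : rep D f * rep D f = -1 :=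
  (quad_cls_neg D hsc (rep_mem D f)).2 (by rwa [cls_rep])

variable [Finite F] (h8 : 8 ≤ Fintype.card ι)
include h8

/-- The classes form a quadratic space. -/
theorem space : Space (form D) (quad D) where
  two f := Subtype.ext (funext fun z => (by decide : ∀ c : ZMod 2, c + c = 0) _)
  add a b c := by
    conv_lhs => rw [← cls_rep D a, ← cls_rep D b, ← cls_mul, ← cls_rep D c, form_cls]
    rw [D.bit_mul (rep_mem D a) (rep_mem D b) (rep_mem D c)]
    rfl
  symm a b := bit_comm _ _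
  alt a := bit_self _
  quad a b := by
    obtain ⟨x, hx, rfl⟩ : ∃ x, ∃ hx : x ∈ S, cls D hx = a := ⟨_, rep_mem D a, cls_rep D a⟩
    obtain ⟨y, hy, rfl⟩ : ∃ y, ∃ hy : y ∈ S, cls D hy = b := ⟨_, rep_mem D b, cls_rep D b⟩
    rw [← cls_mul D hx hy, form_cls D hx hy]
    have q0 : ∀ {z : GL ι F} (hz : z ∈ S), z * z = 1 → quad D (cls D hz) = 0 := fun hz => (quad_cls D hsc hz).1
    have q1 : ∀ {z : GL ι F} (hz : z ∈ S), z * z = -1 → quad D (cls D hz) = 1 := fun hz => (quad_cls_neg D hsc hz).1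
    rcases D.comm x hx y hy with e | e
    · have h := sq_mul e
      rw [bit_eq_zero.2 e, add_zero]
      rcases D.sq x hx with ex | ex <;> rcases D.sq y hy with ey | ey <;> rw [ex, ey] at h
      · rw [q0 _ (by simpa using h), q0 hx ex, q0 hy ey]; rfl
      · rw [q1 _ (by simpa using h), q0 hx ex, q1 hy ey]; rfl
      · rw [q1 _ (by simpa using h), q1 hx ex, q0 hy ey]; rfl
      · rw [q0 _ (by simpa using h), q1 hx ex, q1 hy ey]; rfl
    · have h : x * y * (x * y) = -(x * x * (y * y)) := by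
        rw [mul_assoc, ← mul_assoc y, show y * x = -(x * y) by rw [e, neg_neg], neg_mul, mul_neg, mul_assoc x y y,
          ← mul_assoc]
      rw [(D.bit_eq_one hx hy).2 e]
      rcases D.sq x hx with ex | ex <;> rcases D.sq y hy with ey | ey <;> rw [ex, ey] at h
      · rw [q1 _ (by simpa using h), q0 hx ex, q0 hy ey]; rfl
      · rw [q0 _ (by simpa using h), q0 hx ex, q1 hy ey]; rfl
      · rw [q0 _ (by simpa using h), q1 hx ex, q0 hy ey]; rfl
      · rw [q1 _ (by simpa using h), q1 hx ex, q1 hy ey]; rfl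
  nondeg a h := by
    refine Subtype.ext (funext fun z => ?_)
    show (a : ↥S → ZMod 2) z = 0
    rw [← h (cls D z.2)]
    conv_rhs => rw [← cls_rep D a, form_cls]
    exact congrFun (congrArg Subtype.val (cls_rep D a).symm) z
  large := by
    classical
    haveI : Finite (GL ι F) := inferInstance
    haveI : Fintype (classSpace D) := Fintype.ofFinite _
    have hspan : Submodule.span F (matrixSet S) ≤
        Submodule.span F (Set.range fun f : classSpace D => mat (rep D f)) := by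
      rw [Submodule.span_le]
      rintro _ ⟨x, hx, rfl⟩
      obtain ⟨c, hc⟩ := (mem_scalars_iff _).1
        ((cls_eq_iff D (rep_mem D (cls D hx)) hx).1 (cls_rep D (cls D hx)))
      show mat x ∈ _
      rw [show x = rep D (cls D hx) * ((rep D (cls D hx))⁻¹ * x) by group, Units.val_mul, hc, Matrix.mul_smul,
        Matrix.mul_one]
      exact Submodule.smul_mem _ _ (Submodule.subset_span ⟨_, rfl⟩)
    rw [CfsgLib.Aschbacher.span_eq_top_of_absIrred D.abs, top_le_iff] at hspan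
    have hle := finrank_range_le_card (R := F) fun f : classSpace D => mat (rep D f)
    rw [Set.finrank, hspan, finrank_top, Module.finrank_matrix, Module.finrank_self, mul_one] at hle
    rw [Nat.card_eq_fintype_card]
    nlinarith

omit h8

/-- The action of a normalising element. -/
noncomputable def act {k : GL ι F} (hk : k ∈ subgroupNormalizer S) (f : classSpace D) : classSpace D :=
  cls D ((Subgroup.mem_normalizer_iff.1 hk (rep D f)).1 (rep_mem D f))

omit hsc in
theorem act_cls {k : GL ι F} (hk : k ∈ subgroupNormalizer S) {x : GL ι F} (hx : x ∈ S) :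
    act D hk (cls D hx) = cls D ((Subgroup.mem_normalizer_iff.1 hk x).1 hx) := by
  obtain ⟨y, hy⟩ : ∃ y, y = rep D (cls D hx) := ⟨_, rfl⟩
  have hyS : y ∈ S := hy ▸ rep_mem D _
  have hs : y⁻¹ * x ∈ scalars ι F := (cls_eq_iff D hyS hx).1 (by subst hy; rw [cls_rep])
  refine (cls_eq_iff D _ _).2 ?_
  rw [← hy, show (k * y * k⁻¹)⁻¹ * (k * x * k⁻¹) = k * (y⁻¹ * x) * k⁻¹ by group, ← scalar_comm hs k,
    mul_inv_cancel_right]
  exact hs

theorem act_isIso {k : GL ι F} (hk : k ∈ subgroupNormalizer S) :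
    IsIso (form D) (quad D) (act D hk) where
  map_add a b := by
    obtain ⟨x, hx, rfl⟩ : ∃ x, ∃ hx : x ∈ S, cls D hx = a := ⟨_, rep_mem D a, cls_rep D a⟩
    obtain ⟨y, hy, rfl⟩ : ∃ y, ∃ hy : y ∈ S, cls D hy = b := ⟨_, rep_mem D b, cls_rep D b⟩
    rw [← cls_mul, act_cls, act_cls, act_cls, ← cls_mul]
    refine (cls_eq_iff D _ _).2 ?_
    rw [show (k * (x * y) * k⁻¹)⁻¹ * (k * x * k⁻¹ * (k * y * k⁻¹)) = 1 by group]
    exact one_mem _
  form a b := by
    obtain ⟨x, hx, rfl⟩ : ∃ x, ∃ hx : x ∈ S, cls D hx = a := ⟨_, rep_mem D a, cls_rep D a⟩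
    obtain ⟨y, hy, rfl⟩ : ∃ y, ∃ hy : y ∈ S, cls D hy = b := ⟨_, rep_mem D b, cls_rep D b⟩
    rw [act_cls, act_cls, form_cls, form_cls, bit_conj]
  quad a := by
    obtain ⟨x, hx, rfl⟩ : ∃ x, ∃ hx : x ∈ S, cls D hx = a := ⟨_, rep_mem D a, cls_rep D a⟩
    rw [act_cls]
    rcases D.sq x hx with e | e
    · rw [(quad_cls D hsc hx).1 e, (quad_cls D hsc _).1]
      rw [show k * x * k⁻¹ * (k * x * k⁻¹) = k * (x * x) * k⁻¹ by group, e]; simp
    · rw [(quad_cls_neg D hsc hx).1 e, (quad_cls_neg D hsc _).1]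
      rw [show k * x * k⁻¹ * (k * x * k⁻¹) = k * (x * x) * k⁻¹ by group, e]; simp

/-- The action of a transvection. -/
theorem cls_tv {z t : GL ι F} (hz : z ∈ S) (hz2 : z * z = -1) (ht : mat t = 1 + mat z) {x : GL ι F} (hx : x ∈ S) :
    ∃ h : t * x * t⁻¹ ∈ S, cls D h = refl (form D) (cls D hz) (cls D hx) := by
  rcases D.comm z hz x hx with e | e
  · have h : t * x * t⁻¹ = x := by rw [tv_comm ht e, mul_inv_cancel_right]
    refine ⟨h.symm ▸ hx, ?_⟩
    rw [refl, form_cls, if_neg (by rw [bit_comm, bit_eq_zero.2 e]; exact zero_ne_one)]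
    exact (cls_eq_iff D _ hx).2 (by rw [h, inv_mul_cancel]; exact one_mem _)
  · have h : t * x * t⁻¹ = z * x := by rw [tv_anti ht hz2 e, mul_inv_cancel_right]
    refine ⟨h.symm ▸ S.mul_mem hz hx, ?_⟩
    rw [refl, form_cls, if_pos (by rw [bit_comm]; exact (D.bit_eq_one hz hx).2 e), add_comm, ← cls_mul]
    exact (cls_eq_iff D _ _).2 (by rw [h, inv_mul_cancel]; exact one_mem _)

/-- The action of a scaled product of two transvections. -/
theorem cls_pair {z z' t t' s γ : GL ι F} (hz : z ∈ S) (hz' : z' ∈ S) (hz2 : z * z = -1) (hz'2 : z' * z' = -1)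
    (ht : mat t = 1 + mat z) (ht' : mat t' = 1 + mat z') (hs : s ∈ scalars ι F) (hγ : γ = s * (t * t'))
    {x : GL ι F} (hx : x ∈ S) : ∃ h : γ * x * γ⁻¹ ∈ S,
      cls D h = refl (form D) (cls D hz) (refl (form D) (cls D hz') (cls D hx)) := by
  obtain ⟨h1, e1⟩ := cls_tv D hsc hz' hz'2 ht' hx
  obtain ⟨h2, e2⟩ := cls_tv D hsc hz hz2 ht h1
  have e : γ * x * γ⁻¹ = t * (t' * x * t'⁻¹) * t⁻¹ := by
    rw [hγ, show s * (t * t') * x * (s * (t * t'))⁻¹ = s * (t * (t' * x * t'⁻¹) * t⁻¹) * s⁻¹ by group,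
      scalar_comm hs, mul_inv_cancel_right]
  refine ⟨e.symm ▸ h2, ?_⟩
  rw [← e1, ← e2]
  exact (cls_eq_iff D _ _).2 (by rw [e, inv_mul_cancel]; exact one_mem _)

omit D hsc

variable {R H : Subgroup (GL (ι ⊕ ι) F)}

/-- An element of `H` trivial on one block is, on the other, in the small group. -/
theorem small_of_class (C : CentData R H) (h8 : 8 ≤ Fintype.card ι) {G : Subgroup (GL ι F)}
    (A : Ambient G (small R)) (hG : ∀ s ∈ G, s ∈ scalars ι F → s = 1 ∨ s = -1)
    (diag : ∀ n ∈ subgroupNormalizer (small R) ⊓ G, bd (n, n) ∈ H) {k : GL ι F} (hk : bd (1, k) ∈ H) (hkG : k ∈ G) :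
    k ∈ small R := by
  classical
  have D := C.split.small_data
  have hsc : ∀ s ∈ small R, s ∈ scalars ι F → s * s = 1 := fun s hs hss => by
    rcases hG s (A.le hs) hss with e | e <;> rw [e] <;> simp
  have S := space D hsc h8
  have hN : ∀ {k}, bd (1, k) ∈ H → k ∈ subgroupNormalizer (small R) := fun h => (C.proj₂ h).2
  let P : Set (classSpace D → classSpace D) := {φ | ∃ k, ∃ h : bd (1, k) ∈ H, φ = act D (hN h)}
  have comm : ∀ φ ∈ P, ∀ a b, quad D a = 1 → quad D b = 1 →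
      ∃ φ' ∈ P, ∀ x, φ' x = refl (form D) (φ a) (refl (form D) (φ b) (refl (form D) b (refl (form D) a x))) := by
    rintro _ ⟨k, hk, rfl⟩ a b ha hb
    obtain ⟨z, hz, rfl⟩ : ∃ z, ∃ hz : z ∈ small R, cls D hz = a := ⟨_, rep_mem D a, cls_rep D a⟩
    obtain ⟨z', hz', rfl⟩ : ∃ z, ∃ hz : z ∈ small R, cls D hz = b := ⟨_, rep_mem D b, cls_rep D b⟩
    have hz2 := (quad_cls_neg D hsc hz).2 ha
    have hz'2 := (quad_cls_neg D hsc hz').2 hb
    have hns : ∀ {z}, z ∈ small R → z * z = -1 → z ∉ scalars ι F := fun {z} hz e hs =>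
      ne_neg D.two (1 : GL ι F) ((hsc z hz hs).symm.trans e)
    obtain ⟨n, -, s₀, hs₀, hns₀⟩ := D.trans_root h8 A hz hz' hz2 hz'2 (hns hz hz2) (hns hz' hz'2)
    obtain ⟨t, t', γ, ht, ht', hγ, s, hs, hγs⟩ := D.exists_pair A hz hz' hz2 hz'2 (hns hz hz2)
      ⟨n, D.sign_of_conj hz hz' (hz'2.trans hz2.symm) hs₀ hns₀⟩
    have hk' : bd (1, k * γ * k⁻¹ * γ⁻¹) ∈ H := by
      have := H.mul_mem (H.mul_mem (H.mul_mem hk (diag γ hγ)) (H.inv_mem hk)) (H.inv_mem (diag γ hγ))
      rw [bd_inv, bd_inv, bd_mul, bd_mul, bd_mul] at this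
      simpa using this
    refine ⟨_, ⟨_, hk', rfl⟩, fun f => ?_⟩
    have hγact : ∀ g, act D hγ.1 g = refl (form D) (cls D hz) (refl (form D) (cls D hz') g) := by
      intro g
      obtain ⟨x, hx, rfl⟩ : ∃ x, ∃ hx : x ∈ small R, cls D hx = g := ⟨_, rep_mem D g, cls_rep D g⟩
      obtain ⟨h, e⟩ := cls_pair D hsc hz hz' hz2 hz'2 ht ht' hs hγs hx
      rw [act_cls D hγ.1 hx, ← e]
    obtain ⟨g, hg⟩ : ∃ g, g = refl (form D) (cls D hz') (refl (form D) (cls D hz) f) := ⟨_, rfl⟩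
    have hfg : f = refl (form D) (cls D hz) (refl (form D) (cls D hz') g) := by rw [hg, S.refl_refl, S.refl_refl]
    have hconj : ∀ v y, act D (hN hk) (refl (form D) v y) =
        refl (form D) (act D (hN hk) v) (act D (hN hk) y) := fun v y => by
      have I := act_isIso D hsc (hN hk)
      simp only [refl, I.form]
      split_ifs <;> simp [I.map_add]
    obtain ⟨y, hy⟩ : ∃ y, y = rep D g := ⟨_, rfl⟩
    obtain ⟨x, hx, hxg⟩ : ∃ x, ∃ hx : x ∈ small R, cls D hx = g := ⟨_, rep_mem D g, cls_rep D g⟩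
    have hkm : ∀ {z}, z ∈ small R → k⁻¹ * z * k ∈ small R := fun {z} hz => by
      have := (Subgroup.mem_normalizer_iff.1 ((subgroupNormalizer _).inv_mem (hN hk)) z).1 hz
      rwa [inv_inv] at this
    -- split the commutator
    obtain ⟨u, hu, huf⟩ : ∃ u, ∃ hu : u ∈ small R, cls D hu = g := ⟨x, hx, hxg⟩
    have hγu : γ * u * γ⁻¹ ∈ small R := (Subgroup.mem_normalizer_iff.1 hγ.1 u).1 hu
    have e1 : cls D hγu = f := by rw [← act_cls D hγ.1 hu, huf, hγact, ← hfg]
    obtain ⟨w, hw⟩ : ∃ w, w = k⁻¹ * u * k := ⟨_, rfl⟩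
    have hwS : w ∈ small R := hw ▸ hkm hu
    have e2 : act D (hN hk) (cls D hwS) = g := by
      rw [act_cls D (hN hk) hwS, ← huf]
      exact (cls_eq_iff D _ _).2 (by rw [hw]; simp [mul_assoc, one_mem])
    have hγw : γ * w * γ⁻¹ ∈ small R := (Subgroup.mem_normalizer_iff.1 hγ.1 w).1 hwS
    have e3 : act D (hN hk) (cls D hγw) =
        refl (form D) (act D (hN hk) (cls D hz)) (refl (form D) (act D (hN hk) (cls D hz')) g) := by
      rw [← act_cls D hγ.1 hwS, hγact, hconj, hconj, e2]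
    rw [← e1, act_cls D (hN hk') hγu]
    rw [e1, ← hg, ← e3, act_cls D (hN hk) hγw]
    refine (cls_eq_iff D _ _).2 ?_
    rw [hw, show k * γ * k⁻¹ * γ⁻¹ * (γ * u * γ⁻¹) * (k * γ * k⁻¹ * γ⁻¹)⁻¹ =
      k * (γ * (k⁻¹ * u * k) * γ⁻¹) * k⁻¹ by group, inv_mul_cancel]
    exact one_mem _
  have key : ∀ φ ∈ P, ∀ r, quad D r = 0 → r ≠ 0 → φ r = r → ∀ x, form D x r = 0 → φ x = x ∨ φ x = x + r := by
    rintro _ ⟨k, hk, rfl⟩ r hr hr0 hkr x hxr
    obtain ⟨ρ, hρ, rfl⟩ : ∃ z, ∃ hz : z ∈ small R, cls D hz = r := ⟨_, rep_mem D r, cls_rep D r⟩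
    obtain ⟨x, hx, rfl⟩ : ∃ z, ∃ hz : z ∈ small R, cls D hz = x := ⟨_, rep_mem D x, cls_rep D x⟩
    have hρ2 := (quad_cls D hsc hρ).2 hr
    have hρns : ρ ∉ scalars ι F := fun hs => hr0 (Subtype.ext (funext fun z =>
      bit_eq_zero.2 (scalar_comm hs (z : GL ι F))))
    rw [form_cls] at hxr
    rw [act_cls, cls_eq_iff] at hkr
    obtain ⟨y, hy, hρy⟩ := D.exists_anti hρ hρns
    obtain ⟨m, hm, hmρ, hmx⟩ : ∃ m, bd (1, m) ∈ H ∧ m * ρ = ρ * m ∧
        ∃ e : GL ι F, e ∈ scalars ι F ∧ ⁅m, x⁆ = e * ⁅k, x⁆ := by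
      have hsgn := D.sign_of_conj hρ hρ rfl (s := (k * ρ * k⁻¹) * ρ⁻¹) (n := k) (by
        have h := inv_mem hkr
        rw [_root_.mul_inv_rev, inv_inv] at h
        rw [show k * ρ * k⁻¹ * ρ⁻¹ = ρ * (ρ⁻¹ * (k * ρ * k⁻¹)) * ρ⁻¹ by group, ← scalar_comm h ρ,
          mul_inv_cancel_right]
        exact h) (by group)
      rcases hsgn with e | e
      · exact ⟨k, hk, mul_inv_eq_iff_eq_mul.1 e, 1, one_mem _, (one_mul _).symm⟩
      · refine ⟨k * y, by rw [← one_mul (1 : GL ι F), ← bd_mul]; exact H.mul_mem hk (C.right_mem y hy), ?_, ?_⟩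
        · rw [mul_assoc, show y * ρ = -(ρ * y) by rw [hρy, neg_neg], mul_neg, ← mul_assoc,
            show k * ρ = -(ρ * k) by rw [← neg_mul]; exact mul_inv_eq_iff_eq_mul.1 e, neg_mul, neg_neg, mul_assoc]
        · have hc : ⁅y, x⁆ ∈ scalars ι F := by
            rcases D.comm y hy x hx with c | c
            · rw [commutatorElement_eq_one_iff_mul_comm.2 c]; exact one_mem _
            · rw [commutatorElement_def, c, neg_mul, neg_mul]
              simpa [mul_assoc] using neg_one_mem_scalars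
          refine ⟨⁅y, x⁆, hc, ?_⟩
          have := scalar_comm hc k
          rw [commutatorElement_def] at hc this
          simp only [commutatorElement_def]
          rw [show k * y * x * (k * y)⁻¹ * x⁻¹ = k * (y * x * y⁻¹ * x⁻¹) * (x * k⁻¹ * x⁻¹) by group, ← this]
          group
    obtain ⟨e, he, hme⟩ := hmx
    have hkey := C.key hm (one_mem _) hρ hρns hρ2 hmρ hx (bit_eq_zero.1 hxr)
    rw [act_cls]
    rw [hme] at hkey
    rcases hkey with h | h
    · left
      refine (cls_eq_iff D _ hx).2 ?_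
      have h2 := inv_mem (mul_mem (inv_mem he) h)
      rw [inv_mul_cancel_left, commutatorElement_def] at h2
      rw [show (k * x * k⁻¹)⁻¹ * x = x⁻¹ * (k * x * k⁻¹ * x⁻¹)⁻¹ * x by group, ← scalar_comm h2 x⁻¹,
        inv_mul_cancel_right]
      exact h2
    · right
      rw [← cls_mul]
      refine (cls_eq_iff D _ _).2 ?_
      rw [← mul_assoc, ← scalar_comm he, mul_assoc] at h
      have h2 := mul_mem (inv_mem he) h
      rw [inv_mul_cancel_left, commutatorElement_def] at h2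
      have hxρ : x * ρ = ρ * x := bit_eq_zero.1 hxr
      rw [show (k * x * k⁻¹)⁻¹ * (x * ρ) = x⁻¹ * ((ρ * (k * x * k⁻¹ * x⁻¹))⁻¹ * (ρ * ρ)) * x * (x⁻¹ * ρ⁻¹ * x * ρ)
          by group, hρ2, mul_one, ← scalar_comm (inv_mem h2) x⁻¹, inv_mul_cancel_right,
        show x⁻¹ * ρ⁻¹ * x * ρ = x⁻¹ * ρ⁻¹ * (x * ρ) by group, hxρ]
      simpa [mul_assoc] using inv_mem h2
  have hid := S.rigid (P := P) (by rintro _ ⟨k, h, rfl⟩; exact act_isIso D hsc (hN h)) comm key _ ⟨k, hk, rfl⟩
  obtain ⟨w, hw, hwk⟩ := D.inner (n := k) fun x hx => by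
    have h := hid (cls D hx)
    rw [act_cls, cls_eq_iff] at h
    rcases D.sign_of_conj hx hx rfl (inv_mem h) (n := k) (by
      rw [_root_.mul_inv_rev, inv_inv]
      calc k * x * k⁻¹ = x * (x⁻¹ * (k * x * k⁻¹)) := by group
        _ = (x⁻¹ * (k * x * k⁻¹)) * x := by
          have h' := inv_mem h
          rw [_root_.mul_inv_rev, inv_inv] at h'
          exact (scalar_comm h' x).symm) with e | e
    · exact Or.inl (mul_inv_eq_iff_eq_mul.1 e)
    · exact Or.inr (by rw [← neg_mul]; exact mul_inv_eq_iff_eq_mul.1 e)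
  rcases hG _ (G.mul_mem (G.inv_mem (A.le hw)) hkG) hwk with e | e
  · rw [inv_mul_eq_one] at e; exact e ▸ hw
  · rw [inv_mul_eq_iff_eq_mul] at e
    rw [e]
    exact (small R).mul_mem hw D.neg

end CfsgLib.SympPow
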