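import Cfsg.Agent.SympType.UnitaryPow

/-!
# Normalisers of symplectic type `2`-groups in `SU_m (p)`, `m = 2^j`, `p ≡ 3 (mod 4)`
-/

set_option autoImplicit false

namespace CfsgLib.SympPow

open Matrix Cfsg.Geo CfsgLib.SympType

/-- The normaliser of `4 ∘ 2^{1+2j}` is maximal in `SU_m(p)`, `m = 2^j`. -/
theorem isMaximalIn_su_pow {F : Type*} [Field F] [Fintype F] {p : ℕ} (hp : p.Prime) (hF : Fintype.card F = p ^ 2)
    (hp4 : p % 4 = 3) {m j : ℕ} (hm : m = 2 ^ j) (hj : 2 ≤ j) (R : Subgroup (GL (Fin m) F)) (D : Data R)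
    (four : ∃ i ∈ R, i ∈ scalars (Fin m) F ∧ i * i = -1) (hRU : R ≤ Cfsg.GU m F p)
    (hcard : Nat.card R = 2 ^ (2 + 2 * j)) :
    IsMaximalIn (Cfsg.GU m F p ⊓ specialLinear (Fin m) F)
      (subgroupNormalizer R ⊓ (Cfsg.GU m F p ⊓ specialLinear (Fin m) F)) := by
  subst hm
  exact isMaximalIn_su_pow_of_data hF hp hp4 j hj R D hRU hcard four

end CfsgLib.SympPow
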