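import Cfsg.Agent.SympPow.Centraliser
import Cfsg.Agent.SympPow.Classes
import Cfsg.Agent.SympPow.Linear
import Cfsg.Agent.SympPow.Unitary
import Cfsg.Agent.SpEight.SymplecticType

/-!
# The normaliser of `2^{1+2k}₋` is maximal in `Sp_{2^k}(p)`
-/

set_option autoImplicit false
set_option linter.unusedSectionVars false

namespace CfsgLib.SympPow

open Matrix Cfsg.Geo CfsgLib.SympType
open CfsgLib.SpEight (centJ mem_centJ thetaMat theta theta_val theta_transpose unitJ scalar_sp exists_conj_unitJ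
  minus_comap spGL_le_of_normalized)
open scoped commutatorElement

local notation:max "mat" => Units.val

variable {F : Type*} [Field F] [Fintype F] {l k : ℕ}

local notation "ι" => (Fin (l + l) ⊕ Fin (l + l))
local notation "κ" => (Fin l ⊕ Fin l)

/-- A non-scalar involution with an anticommuting one. -/
theorem exists_partner {η : Type} [Fintype η] [DecidableEq η] [Nonempty η] {R : Subgroup (GL η F)} (D : Data R) {u : GL η F} (hu : u ∈ R)
    (huns : u ∉ scalars η F) (hu2 : u * u = 1) : ∃ y ∈ R, y * y = 1 ∧ u * y = -(y * u) := by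
  obtain ⟨y, hy, huy⟩ := D.exists_anti hu huns
  rcases D.sq y hy with h | h
  · exact ⟨y, hy, h, huy⟩
  · have hyu : y * u = -(u * y) := by rw [huy, neg_neg]
    refine ⟨u * y, R.mul_mem hu hy, ?_, ?_⟩
    · rw [mul_assoc, ← mul_assoc y, hyu, neg_mul, mul_assoc u y y, h, mul_neg_one, neg_neg, hu2]
    · rw [mul_assoc u y u, hyu, mul_neg, neg_neg]

/-- A non-scalar involution exists. -/
theorem exists_involution {η : Type} [Fintype η] [DecidableEq η] [Nonempty η] {R : Subgroup (GL η F)} (D : Data R)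
    (h8 : 8 ≤ Fintype.card η) :
    ∃ u ∈ R, u ∉ scalars η F ∧ u * u = 1 := by
  obtain ⟨x, hx, hxns⟩ : ∃ x ∈ R, x ∉ scalars η F := by
    by_contra h
    push Not at h
    have hle : Submodule.span F (matrixSet R) ≤ Submodule.span F {(1 : Matrix η η F)} := by
      rw [Submodule.span_le]
      rintro _ ⟨g, hg, rfl⟩
      obtain ⟨c, hc⟩ := (mem_scalars_iff g).1 (h g hg)
      show mat g ∈ _
      rw [hc]
      exact Submodule.smul_mem _ _ (Submodule.mem_span_singleton_self _)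
    rw [CfsgLib.Aschbacher.span_eq_top_of_absIrred D.abs, top_le_iff] at hle
    have h1 : Module.finrank F ↥(Submodule.span F {(1 : Matrix η η F)}) = 1 :=
      finrank_span_singleton one_ne_zero
    rw [hle, finrank_top, Module.finrank_matrix, Module.finrank_self, mul_one] at h1
    nlinarith
  rcases D.sq x hx with hx2 | hx2
  · exact ⟨x, hx, hxns, hx2⟩
  obtain ⟨y, hy, hxy⟩ := D.exists_anti hx hxns
  have hb : bit x y = 1 := (D.bit_eq_one hx hy).2 hxy
  have hns : x⁻¹ * y ∉ scalars η F := fun h => by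
    have e := scalar_comm h x
    rw [mul_assoc, show y * x = -(x * y) by rw [hxy, neg_neg], mul_neg, inv_mul_cancel_left, ← mul_assoc,
      mul_inv_cancel, one_mul] at e
    exact ne_neg D.two _ e.symm
  obtain ⟨o, ho, o', ho', e1, -, e3, -, e5⟩ :=
    D.exists_orth_anti h8 hx hy hxns (D.ns_of_bit (y := x) (by rwa [bit_comm])) hns
  rcases D.sq o ho with h | h
  · exact ⟨o, ho, D.ns_of_bit e5, h⟩
  · refine ⟨o * x, R.mul_mem ho hx, D.ns_of_bit (y := o') ?_, ?_⟩
    · rw [D.bit_mul ho hx ho', e5, bit_comm, e3, add_zero]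
    · rw [mul_assoc, ← mul_assoc x, ← bit_eq_zero.1 e1, mul_assoc o x x, hx2, mul_neg_one, mul_neg, h, neg_neg]

/-- The small group is of minus type. -/
theorem small_minus [Nonempty κ] {k : ℕ} {R : Subgroup (GL (κ ⊕ κ) F)} (S : Split R) (hm : IsOfMinusType (k + 1) R) :
    IsOfMinusType k (small R) := by
  intro A hA hA2
  classical
  by_contra hle
  push Not at hle
  have hc : ∀ (a : small R), a ∈ A → bd ((a : GL κ F), (a : GL κ F)) ∈ R := fun a _ => mem_small.1 a.2
  let K : Subgroup R :=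
    { carrier := {x | ∃ a ∈ A, (x : GL (κ ⊕ κ) F) = bd ((a : GL κ F), (a : GL κ F)) ∨
        (x : GL (κ ⊕ κ) F) = bd ((a : GL κ F), -(a : GL κ F))}
      one_mem' := ⟨1, A.one_mem, Or.inl (map_one bd).symm⟩
      mul_mem' := by
        rintro x y ⟨a, ha, hx⟩ ⟨b, hb, hy⟩
        refine ⟨a * b, A.mul_mem ha hb, ?_⟩
        rcases hx with hx | hx <;> rcases hy with hy | hy <;>
          simp [Subgroup.coe_mul, hx, hy, bd_mul]
      inv_mem' := by
        rintro x ⟨a, ha, hx⟩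
        refine ⟨a, ha, ?_⟩
        have e : (a : GL κ F) * a = 1 := congrArg Subtype.val (hA2 a ha)
        have e' : (a : GL κ F)⁻¹ = a := inv_eq_of_mul_eq_one_right e
        rcases hx with hx | hx
        · exact Or.inl (by simp [hx, bd_inv, e'])
        · exact Or.inr (by
            rw [Subgroup.coe_inv, hx, bd_inv, e', inv_eq_of_mul_eq_one_right (show -(a : GL κ F) * -a = 1 by
              rw [neg_mul_neg, e])]) }
  have hKc : IsMulCommutative K := ⟨⟨fun x y => Subtype.ext (Subtype.ext (by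
    obtain ⟨a, ha, hx⟩ := x.2
    obtain ⟨b, hb, hy⟩ := y.2
    have e : (a : GL κ F) * b = b * a := congrArg (fun z : A => ((z : small R) : GL κ F))
      (hA.is_comm.comm ⟨a, ha⟩ ⟨b, hb⟩)
    rcases hx with hx | hx <;> rcases hy with hy | hy <;>
      simp [Subgroup.coe_mul, hx, hy, bd_mul, e]))⟩⟩
  have hK2 : ∀ x ∈ K, x * x = 1 := by
    rintro x ⟨a, ha, hx⟩
    have e : (a : GL κ F) * a = 1 := congrArg Subtype.val (hA2 a ha)
    refine Subtype.ext ?_
    rw [Subgroup.coe_mul, OneMemClass.coe_one]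
    rcases hx with hx | hx <;> simp [hx, bd_mul, e, neg_mul_neg]
    all_goals exact map_one bd
  have hlt := hm K hKc hK2
  let f : A × Bool → K := fun p => cond p.2
    ⟨⟨bd (((p.1 : small R) : GL κ F), ((p.1 : small R) : GL κ F)), hc _ p.1.2⟩, p.1, p.1.2, Or.inl rfl⟩
    ⟨⟨bd (((p.1 : small R) : GL κ F), -((p.1 : small R) : GL κ F)), S.sign_mem (p.1 : small R).2⟩,
      p.1, p.1.2, Or.inr rfl⟩
  have hf : Function.Injective f := by
    rintro ⟨a, e⟩ ⟨b, e'⟩ hab
    have h' := congrArg (fun z : K => ((z : R) : GL (κ ⊕ κ) F)) hab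
    cases e <;> cases e' <;> simp only [f, cond_true, cond_false, bd_inj] at h'
    · rw [show a = b from Subtype.ext (Subtype.ext h'.1)]
    · exact absurd (h'.2.symm.trans (congrArg (fun t : GL κ F => -t) h'.1)) (ne_neg S.small_data.two _)
    · exact absurd (h'.2.trans (congrArg (fun t : GL κ F => -t) h'.1.symm)) (ne_neg S.small_data.two _)
    · rw [show a = b from Subtype.ext (Subtype.ext h'.1)]
  have := Nat.card_le_card_of_injective f hf
  rw [Nat.card_prod, Nat.card_eq_fintype_card (α := Bool), Fintype.card_bool] at this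
  rw [pow_succ] at hlt
  omega

/-- Centralisers of involutions in a proper overgroup. -/
theorem cent_plus (hl : 4 ≤ l)
    (IH : ∀ R : Subgroup (GL κ F), Data R → R ≤ Cfsg.spGL l F → Nat.card R = 2 ^ (1 + 2 * k) → IsOfMinusType k R →
      IsMaximalIn (Cfsg.spGL l F) (subgroupNormalizer R ⊓ Cfsg.spGL l F))
    {R H : Subgroup (GL ι F)} (D : Data R) (hR : R ≤ Cfsg.spGL (l + l) F)
    (hcard : Nat.card R = 2 ^ (1 + 2 * (k + 1))) (hm : IsOfMinusType (k + 1) R)
    (hlow : subgroupNormalizer R ⊓ Cfsg.spGL (l + l) F ≤ H) (hhigh : H ≤ Cfsg.spGL (l + l) F)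
    (hne : ¬ Cfsg.spGL (l + l) F ≤ H) :
    ∀ g ∈ H, ∀ u ∈ R, u ∉ scalars ι F → u * u = 1 → g * u = u * g → g ∈ subgroupNormalizer R := by
  classical
  haveI : Nonempty κ := ⟨Sum.inl ⟨0, by omega⟩⟩
  haveI : Nonempty ι := ⟨Sum.inl ⟨0, by omega⟩⟩
  have h8 : 8 ≤ Fintype.card ι := by simp; omega
  have h8' : 8 ≤ Fintype.card κ := by simp; omega
  intro g hg u hu huns hu2 hgu
  obtain ⟨y, hy, hy2, huy⟩ := exists_partner D hu huns hu2
  obtain ⟨M, N, hMN, hNM, hsg, hsw, hM, S, hle⟩ := exists_split D hR hu hy hu2 hy2 huy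
  obtain ⟨φ, hφ⟩ : ∃ φ, φ = coordEquiv M N hMN hNM := ⟨_, rfl⟩
  have hX : (Cfsg.spGL (l + l) F).comap φ.toMonoidHom = pairSp l F := hφ ▸ spGL_comap M N hMN hNM hM
  have hN : (subgroupNormalizer R).comap φ.toMonoidHom = subgroupNormalizer (R.comap φ.toMonoidHom) := by
    rw [hφ]; exact normalizer_comap
  rw [← hφ] at hsg S hle
  obtain ⟨R', hR'⟩ : ∃ R', R' = R.comap φ.toMonoidHom := ⟨_, rfl⟩
  obtain ⟨H', hH'⟩ : ∃ H', H' = H.comap φ.toMonoidHom := ⟨_, rfl⟩
  have hne' : ¬ pairSp l F ≤ H' := fun h => hne fun z hz => by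
    obtain ⟨z', rfl⟩ := φ.surjective z
    have := h (hX ▸ hz : z' ∈ pairSp l F)
    rw [hH'] at this
    exact this
  have hlow' : subgroupNormalizer R' ⊓ pairSp l F ≤ H' := by
    rw [hR', hH', ← hN, ← hX, ← Subgroup.comap_inf]
    exact Subgroup.comap_mono hlow
  have hhigh' : H' ≤ pairSp l F := by rw [hH', ← hX]; exact Subgroup.comap_mono hhigh
  rw [← hR'] at S hle hN
  have hRH : R' ≤ H' := fun _ hx => hlow' ⟨Subgroup.le_normalizer hx, hle hx⟩
  have D' := S.small_data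
  have hsmall : small R' ≤ Cfsg.spGL l F := fun _ ha => (bd_mem_pairSp.1 (hle ha)).1
  have hcard' : Nat.card (small R') = 2 ^ (1 + 2 * k) := by
    have h1 : Nat.card R' = Nat.card R := by
      rw [hR']; exact Nat.card_congr (φ.toEquiv.subtypeEquiv fun g => Iff.rfl)
    rw [S.card_eq, hcard, show 1 + 2 * (k + 1) = 1 + 2 * k + 2 by ring, pow_add] at h1
    omega
  have hbase := IH (small R') D' hsmall hcard' (small_minus S (hR' ▸ minus_comap φ hm))
  have diag : ∀ n ∈ subgroupNormalizer (small R') ⊓ Cfsg.spGL l F, bd (n, n) ∈ H' := fun n hn =>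
    hlow' ⟨diag_normalizer S hn.1, bd_mem_pairSp.2 ⟨hn.2, hn.2⟩⟩
  have right : ∀ r ∈ small R', bd (1, r) ∈ H' := fun r hr =>
    hlow' ⟨right_normalizer S hr, bd_mem_pairSp.2 ⟨one_mem _, hsmall hr⟩⟩
  have trans : ∀ r ∈ small R', r ∉ scalars κ F → r * r = 1 → ∃ n ∈ subgroupNormalizer R' ⊓ H',
      n * bd (r, r) * n⁻¹ = sg ∨ n * bd (r, r) * n⁻¹ = -(sg : GL (κ ⊕ κ) F) := by
    intro r hr hns hr2
    have ha : φ (bd (r, r)) ∈ R := by
      have h := mem_small.1 hr
      rw [hR'] at h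
      exact h
    have hns' : φ (bd (r, r)) ∉ scalars ι F := fun h => hns (D'.scalar_of_comm fun z _ => by
      have e : bd (r, r) * bd (z, z) = bd (z, z) * bd (r, r) :=
        φ.injective (by rw [map_mul, map_mul]; exact scalar_comm h _)
      rw [bd_mul, bd_mul, bd_inj] at e
      exact e.1)
    obtain ⟨n, hn, hna⟩ := D.trans_plus (ambient_sp D.two hR) h8 ha hu
      (by rw [← map_mul, bd_mul, hr2, show bd ((1 : GL κ F), (1 : GL κ F)) = 1 from map_one bd, map_one])
      hu2 hns' huns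
    obtain ⟨n', rfl⟩ := φ.surjective n
    have hn'H : n' ∈ H' := hlow' ⟨hN ▸ (hn.1 : n' ∈ (subgroupNormalizer R).comap φ.toMonoidHom), hX ▸ hn.2⟩
    refine ⟨n', ⟨hN ▸ (hn.1 : n' ∈ (subgroupNormalizer R).comap φ.toMonoidHom), hn'H⟩, ?_⟩
    rcases hna with e | e <;> rw [← map_inv, ← map_mul, ← map_mul, ← hsg] at e
    · exact Or.inl (φ.injective e)
    · refine Or.inr (φ.injective (e.trans ?_))
      rw [hφ, neg_coordEquiv]
  have hswap : ∀ {a b : GL κ F}, bd (a, b) ∈ H' → bd (b, a) ∈ H' := fun {a b} h => by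
    rw [← sw_conj]; exact H'.mul_mem (H'.mul_mem (hRH S.sw_mem) h) (H'.inv_mem (hRH S.sw_mem))
  let Xp : Subgroup (GL κ F) :=
    { carrier := {a | ∃ b, bd (a, b) ∈ H'}
      one_mem' := ⟨1, by rw [show bd ((1 : GL κ F), (1 : GL κ F)) = 1 from map_one bd]; exact H'.one_mem⟩
      mul_mem' := fun {a c} ⟨b, hb⟩ ⟨d, hd⟩ => ⟨b * d, by rw [← bd_mul]; exact H'.mul_mem hb hd⟩
      inv_mem' := fun {a} ⟨b, hb⟩ => ⟨b⁻¹, by rw [← bd_inv]; exact H'.inv_mem hb⟩ }
  rcases hbase.2 Xp (fun a ha => ⟨a, diag a ha⟩) (fun a ⟨b, hb⟩ => (bd_mem_pairSp.1 (hhigh' hb)).1) with hp | hp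
  · have C : CentData R' H' := ⟨S, hRH, fun a b hab => by
      have : a ∈ Xp := ⟨b, hab⟩
      rw [hp] at this
      exact this.1, right, trans⟩
    obtain ⟨g', rfl⟩ := φ.surjective g
    obtain ⟨a, b, rfl⟩ := exists_bd_of_comm D.two (g := g') (φ.injective (by rw [map_mul, map_mul, hsg]; exact hgu))
    have hab : bd (a, b) ∈ H' := by rw [hH']; exact hg
    have ha := (C.proj₂ hab).1
    have haS := bd_mem_pairSp.1 (hhigh' hab)
    have hw : a⁻¹ * b ∈ small R' := small_of_class C h8' (ambient_sp D'.two hsmall)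
      (fun s hs hss => scalar_sp (by omega) hss hs) diag (k := a⁻¹ * b) (by
        have := H'.mul_mem (H'.inv_mem (diag a ⟨ha, haS.1⟩)) hab
        rwa [bd_inv, bd_mul, inv_mul_cancel] at this) (mul_mem (inv_mem haS.1) haS.2)
    have hfin : bd (a, b) ∈ subgroupNormalizer R' := by
      rw [show bd (a, b) = bd (a, a) * bd (1, a⁻¹ * b) by rw [bd_mul, mul_one, mul_inv_cancel_left]]
      exact mul_mem (diag_normalizer S ha) (right_normalizer S hw)
    rw [← hN] at hfin
    exact hfin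
  exfalso
  obtain ⟨r, hr, hrns, hr2⟩ := exists_involution D' h8'
  let K : Subgroup (GL κ F) := H'.comap (bd.comp ((1 : GL κ F →* GL κ F).prod (MonoidHom.id _)))
  have hK : ∀ {k}, k ∈ K ↔ bd (1, k) ∈ H' := Iff.rfl
  have hKS : Cfsg.spGL l F ≤ K := by
    refine spGL_le_of_normalized (by omega) D.two (fun h hh k hk _ => ?_) (right r hr) (hsmall hr) hrns
    obtain ⟨b, hb⟩ : h ∈ Xp := hp ▸ hh
    have := H'.mul_mem (H'.mul_mem (hswap hb) (hK.1 hk)) (H'.inv_mem (hswap hb))
    rw [bd_inv, bd_mul, bd_mul, mul_one, mul_inv_cancel] at this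
    exact this
  obtain ⟨n, hn, hns⟩ := trans r hr hrns hr2
  refine hne' (pairSp_le_of_blocks (by omega) D.two hM (hMN := hMN) (hNM := hNM) hhigh' (fun a ha b hb => ?_)
    (hRH S.sw_mem) (H'.inv_mem hn.2) ?_ ?_)
  · have := H'.mul_mem (hswap (hK.1 (hKS ha))) (hK.1 (hKS hb))
    rwa [bd_mul, mul_one, one_mul] at this
  all_goals
    intro e
    have h1 : n⁻¹ * sg * n⁻¹⁻¹ = bd (r, r) ∨ n⁻¹ * sg * n⁻¹⁻¹ = -bd (r, r) := by
      rcases hns with h | h
      · left; rw [← h]; group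
      · right; rw [← neg_neg (sg : GL (κ ⊕ κ) F), ← h, mul_neg, neg_mul]; group
    rw [e] at h1
    rcases h1 with h1 | h1 <;> simp only [sg, ← bd_neg, bd_inj, neg_neg] at h1
    all_goals
      refine hrns ?_
      first
        | (rw [show r = -1 from neg_eq_iff_eq_neg.1 h1.1.symm]; exact neg_one_mem_scalars)
        | (rw [show r = -1 from neg_eq_iff_eq_neg.1 h1.2.symm]; exact neg_one_mem_scalars)
        | (rw [← h1.1]; exact one_mem _)
        | (rw [← h1.1]; exact neg_one_mem_scalars)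
        | (rw [← h1.2]; exact one_mem _)
        | (rw [← h1.2]; exact neg_one_mem_scalars)

/-- Centralisers of square roots of `-1` in a proper overgroup. -/
theorem cent_root {L : Type*} [Field L] [Fintype L] {ψ : F →+* L} {c : L} {hc : c * c = -1}
    {K : Subgroup (GL (Fin (l + l)) L)} (B : ThetaBase ψ c hc (l + l) k K) (hl : 4 ≤ l) (hl2 : 2 ∣ l)
    {R H : Subgroup (GL ι F)} (D : Data R) (hR : R ≤ Cfsg.spGL (l + l) F)
    (hcard : Nat.card R = 2 ^ (1 + 2 * k)) (hlow : subgroupNormalizer R ⊓ Cfsg.spGL (l + l) F ≤ H)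
    (hhigh : H ≤ Cfsg.spGL (l + l) F)
    (hplus : ∀ g ∈ H, ∀ u ∈ R, u ∉ scalars ι F → u * u = 1 → g * u = u * g → g ∈ subgroupNormalizer R)
    {x g : GL ι F} (hx : x ∈ R) (hx2 : x * x = -1) (hg : g ∈ H) (hgx : g * x = x * g) :
    g ∈ subgroupNormalizer R := by
  haveI : Nonempty ι := ⟨Sum.inl ⟨0, by omega⟩⟩
  obtain ⟨h, hh, hhJ⟩ := exists_conj_unitJ D.two (hR hx) hx2
  obtain ⟨φ, hφ⟩ : ∃ φ, φ = coordEquiv (mat h) (mat h⁻¹) (Units.mul_inv h) (Units.inv_mul h) := ⟨_, rfl⟩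
  have hval : ∀ z, φ z = h * z * h⁻¹ := fun z => by rw [hφ]; exact Units.ext rfl
  have hX : ∀ z, φ z ∈ Cfsg.spGL (l + l) F ↔ z ∈ Cfsg.spGL (l + l) F := fun z => by
    rw [hval]
    refine ⟨fun hz => ?_, fun hz => mul_mem (mul_mem hh hz) (inv_mem hh)⟩
    have := mul_mem (mul_mem (inv_mem hh) hz) hh
    rwa [show h⁻¹ * (h * z * h⁻¹) * h = z by group] at this
  have hN : (subgroupNormalizer R).comap φ.toMonoidHom = subgroupNormalizer (R.comap φ.toMonoidHom) := by
    rw [hφ]; exact normalizer_comap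
  have D' : Data (R.comap φ.toMonoidHom) := by rw [hφ]; exact D.comap
  obtain ⟨g', rfl⟩ := φ.surjective g
  have hcard' : Nat.card (R.comap φ.toMonoidHom) = 2 ^ (1 + 2 * k) := by
    rw [← hcard]
    exact Nat.card_congr (φ.toEquiv.subtypeEquiv fun g => Iff.rfl)
  have key := cent_unitJ B hl hl2 D' (H := H.comap φ.toMonoidHom) (fun z hz => (hX z).1 (hR hz)) hcard'
    (show φ (unitJ (l + l) F) ∈ R by rw [hval, hhJ]; exact hx)
    (fun z hz => hlow ⟨(hN ▸ hz.1 : z ∈ (subgroupNormalizer R).comap φ.toMonoidHom), (hX z).2 hz.2⟩)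
    (fun z hz => (hX z).1 (hhigh hz))
    (fun z hz u hu huns hu2 hzu => hN ▸ hplus (φ z) hz (φ u) hu
      (fun h' => huns (D'.scalar_of_comm fun w _ =>
        φ.injective (by rw [map_mul, map_mul]; exact scalar_comm h' (φ w))))
      (by rw [← map_mul, hu2, map_one]) (by rw [← map_mul, ← map_mul, hzu]))
    (g := g') hg (φ.injective (by rw [map_mul, map_mul, hval (unitJ (l + l) F), hhJ]; exact hgx))
  rw [← hN] at key
  exact key

/-- The normaliser is maximal, given the half and the centraliser of `J`. -/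
theorem isMaximalIn_step (hl : 4 ≤ l) (hl2 : 2 ∣ l) {L : Type*} [Field L] [Fintype L] {ψ : F →+* L} {c : L}
    {hc : c * c = -1} {K : Subgroup (GL (Fin (l + l)) L)} (B : ThetaBase ψ c hc (l + l) (k + 1) K)
    (IH : ∀ R : Subgroup (GL κ F), Data R → R ≤ Cfsg.spGL l F → Nat.card R = 2 ^ (1 + 2 * k) → IsOfMinusType k R →
      IsMaximalIn (Cfsg.spGL l F) (subgroupNormalizer R ⊓ Cfsg.spGL l F))
    {R : Subgroup (GL ι F)} (D : Data R) (hR : R ≤ Cfsg.spGL (l + l) F)
    (hcard : Nat.card R = 2 ^ (1 + 2 * (k + 1))) (hm : IsOfMinusType (k + 1) R) :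
    IsMaximalIn (Cfsg.spGL (l + l) F) (subgroupNormalizer R ⊓ Cfsg.spGL (l + l) F) := by
  classical
  haveI : Nonempty κ := ⟨Sum.inl ⟨0, by omega⟩⟩
  haveI : Nonempty ι := ⟨Sum.inl ⟨0, by omega⟩⟩
  have h8 : 8 ≤ Fintype.card ι := by simp; omega
  have A := ambient_sp D.two hR
  refine ⟨lt_of_le_not_ge inf_le_right fun hle => ?_, fun H hlow hhigh => ?_⟩
  · obtain ⟨u, hu, huns, hu2⟩ := exists_involution D h8
    obtain ⟨y, hy, hy2, huy⟩ := exists_partner D hu huns hu2
    obtain ⟨M, N, hMN, hNM, hsg, hsw, hM, S, hRle⟩ := exists_split D hR hu hy hu2 hy2 huy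
    have hN : pairSp l F ≤ subgroupNormalizer (R.comap (coordEquiv M N hMN hNM).toMonoidHom) := by
      rw [← spGL_comap M N hMN hNM hM, ← normalizer_comap]
      exact Subgroup.comap_mono (hle.trans inf_le_left)
    have hbase := IH _ S.small_data (fun _ ha => (bd_mem_pairSp.1 (hRle ha)).1) (by
      have h1 : Nat.card (R.comap (coordEquiv M N hMN hNM).toMonoidHom) = Nat.card R :=
        Nat.card_congr ((coordEquiv M N hMN hNM).toEquiv.subtypeEquiv fun g => Iff.rfl)
      rw [S.card_eq, hcard, show 1 + 2 * (k + 1) = 1 + 2 * k + 2 by ring, pow_add] at h1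
      omega) (small_minus S (minus_comap _ hm))
    refine hbase.1.not_ge fun a ha => ?_
    have h1 := (Subgroup.mem_normalizer_iff.1 (hN (bd_mem_pairSp.2 ⟨ha, one_mem _⟩)) _).1 S.sw_mem
    have h2 := (R.comap (coordEquiv M N hMN hNM).toMonoidHom).mul_mem h1 S.sw_mem
    rw [bd_inv, mul_assoc (bd (a, 1)), sw_bd, ← mul_assoc (bd (a, 1)), bd_mul, mul_assoc, sw_sq, mul_one,
      inv_one, one_mul, mul_one] at h2
    obtain ⟨b, hb, e | e⟩ := S.comm_cases h2 (sg_comm_bd _ _).symm <;> rw [bd_inj] at e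
    all_goals
      rw [← e.1] at hb
      exact ⟨Subgroup.le_normalizer hb, ha⟩
  by_cases hne : Cfsg.spGL (l + l) F ≤ H
  · exact Or.inr (le_antisymm hhigh hne)
  left
  have hplus := cent_plus hl IH D hR hcard hm hlow hhigh hne
  have O : Over (Cfsg.spGL (l + l) F) H R := by
    refine ⟨D, A, hlow, hhigh, h8, fun g hg x hx hns hgx => ?_, fun g hg v hv w hw hvns s hs h => ?_⟩
    · rcases D.sq x hx with e | e
      · exact hplus g hg x hx hns e hgx
      · exact cent_root B hl hl2 D hR hcard hlow hhigh hplus hx e hg hgx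
    · have hsX : s ∈ Cfsg.spGL (l + l) F := by
        have : g * v * g⁻¹ * w⁻¹ ∈ Cfsg.spGL (l + l) F :=
          mul_mem (mul_mem (mul_mem (hhigh hg) (hR hv)) (inv_mem (hhigh hg))) (inv_mem (hR hw))
        rwa [h, mul_inv_cancel_right] at this
      have hwns : w ∉ scalars ι F := fun hws => hvns (by
        have hsw : g * v * g⁻¹ ∈ scalars ι F := h ▸ mul_mem hs hws
        rw [show v = g⁻¹ * (g * v * g⁻¹) * g by group, ← scalar_comm hsw g⁻¹, inv_mul_cancel_right]
        exact hsw)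
      have hwv : w * w = v * v := by
        have e : g * v * g⁻¹ * (g * v * g⁻¹) = v * v := by
          rw [show g * v * g⁻¹ * (g * v * g⁻¹) = g * (v * v) * g⁻¹ by group]
          rcases D.sq v hv with e | e <;> rw [e] <;> simp
        rw [← e, h]
        rcases scalar_sp (by omega) hs hsX with e' | e' <;> rw [e'] <;> simp
      rcases D.sq v hv with e | e
      · obtain ⟨n, hn, h' | h'⟩ := D.trans_plus A h8 hw hv (hwv.trans e) e hwns hvns
        · exact ⟨n, hn, 1, one_mem _, by rw [h', one_mul]⟩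
        · exact ⟨n, hn, -1, neg_one_mem_scalars, by rw [h', neg_one_mul]⟩
      · exact D.trans_root h8 A hw hv (hwv.trans e) e hwns hvns
  exact le_antisymm (le_inf O.le_normalizer hhigh) hlow

/-- The base for `p ≡ 1 (mod 4)`. -/
theorem thetaBase_linear (hp : (Fintype.card F).Prime) (h2 : (2 : F) ≠ 0) {c : F} (hc : c * c = -1) {m j : ℕ}
    (hm : m = 2 ^ j) (hj : 2 ≤ j) :
    ThetaBase (RingHom.id F) c hc m (j + 1) (specialLinear (Fin m) F) where
  mem g h := CfsgLib.Aschbacher.mem_specialLinear_iff.2 h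
  base S D four hS _ := isMaximalIn_sl_pow hp h2 hm hj S D four (by rw [hS]; congr 1; omega)

/-- The base for `p ≡ 3 (mod 4)`. -/
theorem thetaBase_unitary {L : Type*} [Field L] [Fintype L] {ψ : F →+* L} {p : ℕ} (hp : p.Prime)
    (hF : Fintype.card F = p) (hp4 : p % 4 = 3) (hL : Fintype.card L = p ^ 2) {c : L} (hc : c * c = -1) {m j : ℕ}
    (hm : m = 2 ^ j) (hj : 2 ≤ j) :
    ThetaBase ψ c hc m (j + 1) (Cfsg.GU m L p ⊓ specialLinear (Fin m) L) := by
  classical
  obtain ⟨σ, hσ, hσσ⟩ := FieldEmb.exists_conj hL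
  have hσψ : ∀ x, σ (ψ x) = ψ x := fun x => by rw [hσ, ← map_pow, ← hF, FiniteField.pow_card]
  have hσc : σ c = -c := by
    obtain ⟨k, hk⟩ : ∃ k, p = 2 * (2 * k + 1) + 1 := ⟨p / 4, by omega⟩
    rw [hσ, hk, pow_succ, pow_mul, pow_two, hc, Odd.neg_one_pow ⟨k, rfl⟩, neg_one_mul]
  have hmap : ∀ (A B : Matrix (Fin m) (Fin m) F), (A.map ψ + c • B.map ψ).map σ = A.map ψ + (-c) • B.map ψ :=
    fun A B => by ext i j; simp [hσψ, hσc]
  refine ⟨fun g hd => ⟨?_, CfsgLib.Aschbacher.mem_specialLinear_iff.2 hd⟩, fun S D four hS hSK =>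
    isMaximalIn_su_pow hp hL hp4 hm hj S D four (hSK.trans inf_le_left) (by rw [hS]; congr 1; omega)⟩
  refine (InvNorm.mem_GU_iff hσ hσσ _).2 ?_
  rw [InvNorm.tau, theta_val, thetaMat, hmap]
  have e := congrArg Matrix.transpose (theta_transpose (ψ := ψ) hc g)
  rw [transpose_mul, transpose_transpose, transpose_one] at e
  exact e

/-- The normaliser of `2^{1+2k}₋` is maximal in `Sp_{2^k}(p)`, `k = j + 3`. -/
theorem isMaximalIn_sp_pow {p : ℕ} (hp : p.Prime) (hodd : Odd p) (hF : Fintype.card F = p) (j : ℕ) :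
    ∀ R : Subgroup (GL (Fin (2 ^ (j + 2)) ⊕ Fin (2 ^ (j + 2))) F), Data R → R ≤ Cfsg.spGL (2 ^ (j + 2)) F →
      Nat.card R = 2 ^ (1 + 2 * (j + 3)) → IsOfMinusType (j + 3) R →
      IsMaximalIn (Cfsg.spGL (2 ^ (j + 2)) F) (subgroupNormalizer R ⊓ Cfsg.spGL (2 ^ (j + 2)) F) := by
  have hFp : (Fintype.card F).Prime := hF ▸ hp
  have h2 : (2 : F) ≠ 0 := CfsgLib.MaxSub.two_ne_zero_of_odd (hF ▸ hodd)
  haveI : Fact p.Prime := ⟨hp⟩
  induction j with
  | zero =>
    intro R D hR hcard hm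
    by_cases hp4 : p % 4 = 3
    · letI : Fintype (GaloisField p 2) := Fintype.ofFinite _
      have hL : Fintype.card (GaloisField p 2) = p ^ 2 := by
        rw [← Nat.card_eq_fintype_card, GaloisField.card p 2 two_ne_zero]
      obtain ⟨ψ⟩ := FieldEmb.exists_ringHom (by norm_num : 1 ≤ 2) hF hL
      obtain ⟨c, hc⟩ : IsSquare (-1 : GaloisField p 2) := FiniteField.isSquare_neg_one_iff.2 (by
        rw [hL, Nat.pow_mod, hp4]; norm_num)
      exact SpEight.isMaximalIn_of_thetaBase (SpEight.thetaBase_unitary (ψ := ψ) hp hF hp4 hL hc.symm) hFp D hR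
        hcard hm
    · obtain ⟨c, hc⟩ : IsSquare (-1 : F) := FiniteField.isSquare_neg_one_iff.2 (by rw [hF]; exact hp4)
      exact SpEight.isMaximalIn_of_thetaBase (SpEight.thetaBase_linear hFp h2 hc.symm) hFp D hR hcard hm
  | succ j ih =>
    rw [show 2 ^ (j + 1 + 2) = 2 ^ (j + 2) + 2 ^ (j + 2) by ring]
    intro R D hR hcard hm
    have hl : 4 ≤ 2 ^ (j + 2) := le_trans (by norm_num) (Nat.pow_le_pow_right (by norm_num) (Nat.le_add_left 2 j))
    have hl2 : 2 ∣ 2 ^ (j + 2) := dvd_pow_self 2 (by omega)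
    have hm' : 2 ^ (j + 2) + 2 ^ (j + 2) = 2 ^ (j + 3) := by ring
    by_cases hp4 : p % 4 = 3
    · letI : Fintype (GaloisField p 2) := Fintype.ofFinite _
      have hL : Fintype.card (GaloisField p 2) = p ^ 2 := by
        rw [← Nat.card_eq_fintype_card, GaloisField.card p 2 two_ne_zero]
      obtain ⟨ψ⟩ := FieldEmb.exists_ringHom (by norm_num : 1 ≤ 2) hF hL
      obtain ⟨c, hc⟩ : IsSquare (-1 : GaloisField p 2) := FiniteField.isSquare_neg_one_iff.2 (by
        rw [hL, Nat.pow_mod, hp4]; norm_num)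
      exact isMaximalIn_step (k := j + 3) hl hl2
        (thetaBase_unitary (ψ := ψ) hp hF hp4 hL hc.symm hm' (by omega)) ih D hR hcard hm
    · obtain ⟨c, hc⟩ : IsSquare (-1 : F) := FiniteField.isSquare_neg_one_iff.2 (by rw [hF]; exact hp4)
      exact isMaximalIn_step (k := j + 3) hl hl2 (thetaBase_linear hFp h2 hc.symm hm' (by omega)) ih D hR hcard hm

end CfsgLib.SympPow
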