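import Cfsg.Agent.SympType.Fusion

/-!
# The degree of a group of symplectic type
-/

set_option autoImplicit false
set_option linter.unusedSectionVars false

namespace CfsgLib.SympPow

open Matrix Cfsg.Geo CfsgLib.SympType

local notation:max "mat" => Units.val

variable {ι : Type} [Fintype ι] [DecidableEq ι] {F : Type*} [Field F] [Nonempty ι] {R : Subgroup (GL ι F)}
  (D : Data R)
include D

/-- Elements of distinct classes are linearly independent. -/
theorem classes_independent {κ : Type*} (x : κ → GL ι F) (hx : ∀ q, x q ∈ R)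
    (hne : ∀ q q', q ≠ q' → (x q)⁻¹ * x q' ∉ scalars ι F) (a : κ → F) (s : Finset κ)
    (h : ∑ q ∈ s, a q • mat (x q) = 0) : ∀ q ∈ s, a q = 0 := by
  classical
  induction s using Finset.strongInduction with
  | _ s ih =>
  intro q hq
  by_cases hsub : ∀ q' ∈ s, q' = q
  · rw [Finset.sum_eq_single q (fun b hb hbq => absurd (hsub b hb) hbq) (fun h' => absurd hq h')] at h
    exact (smul_eq_zero.1 h).resolve_right (x q).ne_zero
  push Not at hsub
  obtain ⟨q', hq', hqq'⟩ := hsub
  obtain ⟨y, hy, hy'⟩ : ∃ y ∈ R, bit (x q) y ≠ bit (x q') y := by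
    by_contra hall
    push Not at hall
    exact hne q q' (Ne.symm hqq') (D.mem_scalar_mul (hx q) (hx q') hall)
  have hconj : ∀ r, mat y * mat (x r) * mat y⁻¹ =
      (if bit (x r) y = 0 then (1 : F) else -1) • mat (x r) := fun r => by
    rcases D.comm y hy (x r) (hx r) with e | e
    · rw [bit_eq_zero.2 e.symm, if_pos rfl, one_smul, ← Units.val_mul, ← Units.val_mul, e, mul_inv_cancel_right]
    · rw [if_neg (by rw [bit_comm, (D.bit_eq_one hy (hx r)).2 e]; exact one_ne_zero), neg_smul, one_smul,
        ← Units.val_mul, ← Units.val_mul, e, neg_mul, mul_inv_cancel_right, Units.val_neg]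
  have h' : ∑ r ∈ s, (a r * if bit (x r) y = 0 then (1 : F) else -1) • mat (x r) = 0 := by
    have := congrArg (fun M => mat y * M * mat y⁻¹) h
    simp only [Matrix.mul_sum, Matrix.sum_mul, Matrix.mul_smul, Matrix.smul_mul, hconj, smul_smul, Matrix.mul_zero,
      Matrix.zero_mul] at this
    exact this
  have split : ∀ c : ZMod 2, ∑ r ∈ s.filter (fun r => bit (x r) y = c), a r • mat (x r) = 0 := by
    intro c
    have e := congrArg₂ (· + ·) (congrArg ((2 : F)⁻¹ • ·) h)
      (congrArg (((if c = 0 then (1 : F) else -1) * (2 : F)⁻¹) • ·) h')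
    simp only [Finset.smul_sum, smul_smul, ← Finset.sum_add_distrib, ← add_smul, smul_zero, add_zero] at e
    rw [Finset.sum_filter]
    refine Eq.trans (Finset.sum_congr rfl fun r _ => ?_) e
    have := D.two
    rcases (by decide : ∀ c : ZMod 2, c = 0 ∨ c = 1) (bit (x r) y) with hr | hr <;>
      rcases (by decide : ∀ c : ZMod 2, c = 0 ∨ c = 1) c with hc | hc <;> rw [hr, hc] <;>
      simp <;> field_simp <;> ring_nf <;> simp
  refine ih _ ?_ (split (bit (x q) y)) q (Finset.mem_filter.2 ⟨hq, rfl⟩)
  refine Finset.filter_ssubset.2 ⟨q', hq', fun e => hy' e.symm⟩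

variable [Finite F]

/-- The order is the order of the centre times the square of the degree. -/
theorem card_eq : Nat.card R = Nat.card (Subgroup.center R) * Fintype.card ι ^ 2 := by
  classical
  have hcen : ∀ z : R, z ∈ Subgroup.center R ↔ (z : GL ι F) ∈ scalars ι F := fun z => by
    rw [Subgroup.mem_center_iff]
    exact ⟨fun h => D.scalar_of_comm fun y hy => (congrArg Subtype.val (h ⟨y, hy⟩)).symm,
      fun h g => Subtype.ext (scalar_comm h (g : GL ι F)).symm⟩
  haveI : Fintype (R ⧸ Subgroup.center R) := Fintype.ofFinite _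
  let x : R ⧸ Subgroup.center R → GL ι F := fun q => ((q.out : R) : GL ι F)
  have hind : LinearIndependent F fun q => mat (x q) := by
    rw [linearIndependent_iff']
    intro s a ha
    refine classes_independent D x (fun q => (q.out : R).2) (fun q q' hqq hs => hqq ?_) a s ha
    rw [← QuotientGroup.out_eq' q, ← QuotientGroup.out_eq' q', QuotientGroup.eq]
    exact (hcen _).2 hs
  have hspan : Submodule.span F (matrixSet R) ≤ Submodule.span F (Set.range fun q => mat (x q)) := by
    rw [Submodule.span_le]
    rintro _ ⟨g, hg, rfl⟩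
    obtain ⟨z, hz⟩ := QuotientGroup.mk_out_eq_mul (Subgroup.center R) (⟨g, hg⟩ : R)
    obtain ⟨c, hc⟩ := (mem_scalars_iff _).1 ((hcen _).1 z.2)
    show mat g ∈ _
    have e : mat g = (c : F)⁻¹ • mat (x (QuotientGroup.mk ⟨g, hg⟩)) := by
      show _ = (c : F)⁻¹ • mat ((Quotient.out (QuotientGroup.mk (⟨g, hg⟩ : R) : R ⧸ Subgroup.center R) : R) : GL ι F)
      rw [hz, Subgroup.coe_mul, Units.val_mul, hc, Matrix.mul_smul, Matrix.mul_one, smul_smul,
        inv_mul_cancel₀ c.ne_zero, one_smul]
    rw [e]
    exact Submodule.smul_mem _ _ (Submodule.subset_span ⟨_, rfl⟩)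
  rw [CfsgLib.Aschbacher.span_eq_top_of_absIrred D.abs, top_le_iff] at hspan
  have h := finrank_span_eq_card hind
  rw [hspan, finrank_top, Module.finrank_matrix, Module.finrank_self, mul_one, ← Nat.card_eq_fintype_card
    (α := R ⧸ Subgroup.center R), ← pow_two] at h
  rw [Subgroup.card_eq_card_quotient_mul_card_subgroup (Subgroup.center R), ← h, mul_comm]

end CfsgLib.SympPow
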