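import Mathlib

/-!
# Isometries of a binary quadratic space moving no singular class much

A set of isometries of a non-degenerate quadratic space over the field of two elements, of size at least `64`,
closed under commutators with products of two transvections, in which an element fixing a singular vector `r`
moves the vectors orthogonal to `r` by multiples of `r`, consists of the identity.
-/

set_option autoImplicit false

namespace CfsgLib.SympPow

variable {W : Type*} [AddCommGroup W]

/-- A binary quadratic space. -/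
structure Space (β : W → W → ZMod 2) (q : W → ZMod 2) : Prop where
  two : ∀ x : W, x + x = 0
  add : ∀ a b c, β (a + b) c = β a c + β b c
  symm : ∀ a b, β a b = β b a
  alt : ∀ a, β a a = 0
  quad : ∀ a b, q (a + b) = q a + q b + β a b
  nondeg : ∀ a, (∀ b, β a b = 0) → a = 0
  large : 64 ≤ Nat.card W

theorem z01 : ∀ c : ZMod 2, c = 0 ∨ c = 1 := by decide

/-- The transvection of a vector. -/
def refl (β : W → W → ZMod 2) (v x : W) : W := if β x v = 1 then x + v else x

/-- An isometry. -/
structure IsIso (β : W → W → ZMod 2) (q : W → ZMod 2) (k : W → W) : Prop where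
  map_add : ∀ x y, k (x + y) = k x + k y
  form : ∀ x y, β (k x) (k y) = β x y
  quad : ∀ x, q (k x) = q x

variable {β : W → W → ZMod 2} {q : W → ZMod 2} (S : Space β q)
include S

theorem Space.zero_left (x : W) : β 0 x = 0 := by
  have h := S.add 0 0 x
  rw [add_zero] at h
  exact left_eq_add.1 h

theorem Space.zero_right (x : W) : β x 0 = 0 := by rw [S.symm, S.zero_left]

theorem Space.add_right (a b c : W) : β a (b + c) = β a b + β a c := by
  rw [S.symm, S.add, S.symm b, S.symm c]

theorem Space.q_zero : q 0 = 0 := by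
  have h := S.quad 0 0
  rw [add_zero, S.zero_left, add_zero] at h
  exact left_eq_add.1 h

theorem Space.add_cancel (x y : W) : x + y + y = x := by rw [add_assoc, S.two, add_zero]

theorem Space.eq_of_add {x y : W} (h : x + y = 0) : x = y := by
  rw [← S.add_cancel x y, h, zero_add]

theorem Space.exists_bit {a : W} (ha : a ≠ 0) : ∃ b, β a b = 1 := by
  by_contra h
  push Not at h
  exact ha (S.nondeg a fun b => (z01 _).resolve_right (h b))

omit [AddCommGroup W] S in
theorem ne_of_bit {x y z : W} (h : β x z = 1) (h' : β y z = 0) : x ≠ y := fun e => by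
  rw [e, h'] at h; exact zero_ne_one h

theorem Space.ne_zero_of_bit {x y : W} (h : β x y = 1) : x ≠ 0 := ne_of_bit h (S.zero_left y)

/-- The projection away from a pair. -/
theorem Space.exists_proj {a b : W} (hab : β a b = 1) :
    ∃ p : W → W, (∀ x, β (p x) a = 0 ∧ β (p x) b = 0) ∧ (∀ x y, β y a = 0 → β y b = 0 → β (p x) y = β x y) ∧
      ∀ x, ∃ e ∈ ({0, a, b, a + b} : Set W), p x = x + e := by
  refine ⟨fun x => x + ((if β x b = 1 then a else 0) + (if β x a = 1 then b else 0)), fun x => ?_,
    fun x y h1 h2 => ?_, fun x => ⟨_, ?_, rfl⟩⟩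
  · have hba : β b a = 1 := by rw [S.symm]; exact hab
    rcases z01 (β x a) with ha | ha <;> rcases z01 (β x b) with hb | hb <;>
      simp [ha, hb, S.add, S.alt, hab, hba, S.zero_left, (by decide : (1 : ZMod 2) + 1 = 0)]
  · have h1' : β a y = 0 := by rw [S.symm]; exact h1
    have h2' : β b y = 0 := by rw [S.symm]; exact h2
    rcases z01 (β x a) with ha | ha <;> rcases z01 (β x b) with hb | hb <;>
      simp [ha, hb, S.add, h1', h2', S.zero_left]
  · rcases z01 (β x a) with ha | ha <;> rcases z01 (β x b) with hb | hb <;> simp [ha, hb]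

/-- A pair orthogonal to two orthogonal pairs. -/
theorem Space.exists_perp_pairs {a b c d : W} (hab : β a b = 1) (hcd : β c d = 1) (hca : β c a = 0) (hcb : β c b = 0)
    (hda : β d a = 0) (hdb : β d b = 0) : ∃ o o' : W, β o o' = 1 ∧ (β o a = 0 ∧ β o b = 0 ∧ β o c = 0 ∧ β o d = 0) ∧
      (β o' a = 0 ∧ β o' b = 0 ∧ β o' c = 0 ∧ β o' d = 0) := by
  classical
  obtain ⟨p, hp, hp', hpe⟩ := S.exists_proj hab
  obtain ⟨p₂, hp₂, hp₂', hp₂e⟩ := S.exists_proj hcd
  have hperp : ∀ x, β (p₂ (p x)) a = 0 ∧ β (p₂ (p x)) b = 0 ∧ β (p₂ (p x)) c = 0 ∧ β (p₂ (p x)) d = 0 := fun x =>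
    ⟨by rw [hp₂' _ a (by rw [S.symm, hca]) (by rw [S.symm, hda])]; exact (hp x).1,
      by rw [hp₂' _ b (by rw [S.symm, hcb]) (by rw [S.symm, hdb])]; exact (hp x).2, (hp₂ _).1, (hp₂ _).2⟩
  obtain ⟨x, hx⟩ : ∃ x, p₂ (p x) ≠ 0 := by
    by_contra h
    push Not at h
    let f : (({0, a, b, a + b} : Finset W) ×ˢ ({0, c, d, c + d} : Finset W) : Finset (W × W)) → W :=
      fun e => e.1.1 + e.1.2
    have hf : Function.Surjective f := fun x => by
      obtain ⟨e, he, hee⟩ := hpe x
      obtain ⟨e', he', hee'⟩ := hp₂e (p x)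
      have hmem : (e, e') ∈ ({0, a, b, a + b} : Finset W) ×ˢ ({0, c, d, c + d} : Finset W) :=
        Finset.mem_product.2 ⟨by simpa using he, by simpa using he'⟩
      refine ⟨⟨_, hmem⟩, ?_⟩
      show e + e' = x
      rw [h x, hee, add_assoc] at hee'
      exact (S.eq_of_add hee'.symm).symm
    have h1 := Nat.card_le_card_of_surjective f hf
    rw [Nat.card_eq_finsetCard, Finset.card_product] at h1
    have h2 : ({0, a, b, a + b} : Finset W).card ≤ 4 := Finset.card_le_four
    have h3 : ({0, c, d, c + d} : Finset W).card ≤ 4 := Finset.card_le_four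
    have := S.large
    nlinarith
  obtain ⟨y, hy⟩ := S.exists_bit hx
  obtain ⟨h1, h2, h3, h4⟩ := hperp x
  refine ⟨p₂ (p x), p₂ (p y), ?_, hperp x, hperp y⟩
  rw [S.symm, hp₂' (p y) _ h3 h4, hp' y _ h1 h2, S.symm]
  exact hy

/-- A pair orthogonal to a pair. -/
theorem Space.exists_perp_pair {u v : W} (huv : β u v = 1) :
    ∃ c d : W, β c d = 1 ∧ β c u = 0 ∧ β c v = 0 ∧ β d u = 0 ∧ β d v = 0 := by
  classical
  obtain ⟨p, hp, hp', hpe⟩ := S.exists_proj huv
  obtain ⟨x, hx⟩ : ∃ x, p x ≠ 0 := by
    by_contra h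
    push Not at h
    let f : ({0, u, v, u + v} : Finset W) → W := fun e => e.1
    have hf : Function.Surjective f := fun x => by
      obtain ⟨e, he, hee⟩ := hpe x
      rw [h x] at hee
      exact ⟨⟨e, by simpa using he⟩, (S.eq_of_add hee.symm).symm⟩
    have h1 := Nat.card_le_card_of_surjective f hf
    rw [Nat.card_eq_finsetCard] at h1
    have h2 : ({0, u, v, u + v} : Finset W).card ≤ 4 := Finset.card_le_four
    have := S.large
    omega
  obtain ⟨y, hy⟩ := S.exists_bit hx
  refine ⟨p x, p y, ?_, (hp x).1, (hp x).2, (hp y).1, (hp y).2⟩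
  rw [S.symm, hp' y _ (hp x).1 (hp x).2, S.symm]
  exact hy

/-- A pair orthogonal to two vectors. -/
theorem Space.exists_perp (a b : W) :
    ∃ o o' : W, β o o' = 1 ∧ β o a = 0 ∧ β o b = 0 ∧ β o' a = 0 ∧ β o' b = 0 := by
  classical
  obtain ⟨u, v, huv, hau⟩ : ∃ u v, β u v = 1 ∧ (a = 0 ∨ a = u) := by
    by_cases ha : a = 0
    · haveI : Nontrivial W := by
        have := S.large
        haveI : Finite W := Nat.finite_of_card_ne_zero (by omega)
        exact Finite.one_lt_card_iff_nontrivial.1 (by omega)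
      obtain ⟨u, hu⟩ := exists_ne (0 : W)
      obtain ⟨v, hv⟩ := S.exists_bit hu
      exact ⟨u, v, hv, Or.inl ha⟩
    · obtain ⟨v, hv⟩ := S.exists_bit ha
      exact ⟨a, v, hv, Or.inr rfl⟩
  obtain ⟨p, hp, hp', hpe⟩ := S.exists_proj huv
  obtain ⟨c, d, hcd, hcu, hcv, hdu, hdv, hbc⟩ : ∃ c d, β c d = 1 ∧ β c u = 0 ∧ β c v = 0 ∧ β d u = 0 ∧ β d v = 0 ∧
      (p b = 0 ∨ p b = c) := by
    by_cases hb : p b = 0
    · obtain ⟨c, d, h⟩ := S.exists_perp_pair huv
      exact ⟨c, d, h.1, h.2.1, h.2.2.1, h.2.2.2.1, h.2.2.2.2, Or.inl hb⟩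
    · obtain ⟨y, hy⟩ := S.exists_bit hb
      refine ⟨p b, p y, ?_, (hp b).1, (hp b).2, (hp y).1, (hp y).2, Or.inr rfl⟩
      rw [S.symm, hp' y _ (hp b).1 (hp b).2, S.symm]
      exact hy
  obtain ⟨o, o', hoo, ⟨h1, h2, h3, h4⟩, ⟨h1', h2', h3', h4'⟩⟩ := S.exists_perp_pairs huv hcd hcu hcv hdu hdv
  have key : ∀ z, β z u = 0 → β z v = 0 → β z c = 0 → β z a = 0 ∧ β z b = 0 := by
    intro z zu zv zc
    refine ⟨?_, ?_⟩
    · rcases hau with rfl | rfl
      exacts [S.zero_right z, zu]
    · have e : β z (p b) = β z b := by rw [S.symm, hp' b z zu zv, S.symm]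
      rw [← e]
      rcases hbc with e' | e' <;> rw [e']
      exacts [S.zero_right z, zc]
  exact ⟨o, o', hoo, (key o h1 h2 h3).1, (key o h1 h2 h3).2, (key o' h1' h2' h3').1, (key o' h1' h2' h3').2⟩

/-- An affine quadratic function has a non-zero value on a pair. -/
theorem Space.exists_one {o o' : W} (hoo : β o o' = 1) (u : W) :
    ∃ z ∈ ({o, o', o + o'} : Set W), q z + β u z = 1 := by
  rcases z01 (q o + β u o) with h | h
  · rcases z01 (q o' + β u o') with h' | h'
    · refine ⟨o + o', by simp, ?_⟩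
      rw [S.quad, S.add_right, hoo]
      calc q o + q o' + 1 + (β u o + β u o') = (q o + β u o) + (q o' + β u o') + 1 := by ring
        _ = 1 := by rw [h, h']; decide
    · exact ⟨o', by simp, h'⟩
  · exact ⟨o, by simp, h⟩

/-- A non-singular vector orthogonal to two vectors. -/
theorem Space.exists_root_perp (a b : W) : ∃ w : W, q w = 1 ∧ β w a = 0 ∧ β w b = 0 := by
  obtain ⟨o, o', hoo, h1, h2, h3, h4⟩ := S.exists_perp a b
  obtain ⟨z, hz, hz'⟩ := S.exists_one hoo 0
  rw [S.zero_left, add_zero] at hz'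
  refine ⟨z, hz', ?_, ?_⟩ <;> rcases hz with rfl | rfl | rfl <;> simp [h1, h2, h3, h4, S.add]

/-- A singular vector orthogonal to two non-singular ones, and a witness. -/
theorem Space.exists_plus_perp {a b : W} (ha : q a = 1) :
    ∃ r w : W, q r = 0 ∧ β r a = 0 ∧ β r b = 0 ∧ β w a = 0 ∧ β w b = 0 ∧ β r w = 1 := by
  rcases z01 (β a b) with hab | hab
  · obtain ⟨o, o', hoo, h1, h2, h3, h4⟩ := S.exists_perp a b
    rcases z01 (q o) with hq | hq
    · exact ⟨o, o', hq, h1, h2, h3, h4, hoo⟩
    · refine ⟨o + a, o', ?_, by rw [S.add, h1, S.alt, add_zero], by rw [S.add, h2, hab, add_zero], h3, h4, ?_⟩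
      · rw [S.quad, hq, ha, h1]; decide
      · rw [S.add, hoo, S.symm a, h3, add_zero]
  · obtain ⟨c, d, hcd, hca, hcb, hda, hdb⟩ := S.exists_perp_pair hab
    obtain ⟨o, o', hoo, ⟨h1, h2, h3, h4⟩, ⟨h1', h2', h3', h4'⟩⟩ := S.exists_perp_pairs hab hcd hca hcb hda hdb
    rcases z01 (q o) with hq | hq
    · exact ⟨o, o', hq, h1, h2, h1', h2', hoo⟩
    rcases z01 (q c) with hc | hc
    · exact ⟨c, d, hc, hca, hcb, hda, hdb, hcd⟩
    refine ⟨o + c, d, ?_, by rw [S.add, h1, hca, add_zero], by rw [S.add, h2, hcb, add_zero], hda, hdb, ?_⟩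
    · rw [S.quad, hq, hc, h3]; decide
    · rw [S.add, h4, hcd, zero_add]

theorem Space.refl_self (v : W) : refl β v v = v := by simp [refl, S.alt]

theorem Space.refl_refl (v x : W) : refl β v (refl β v x) = x := by
  rcases z01 (β x v) with h | h <;> simp [refl, h, S.add, S.alt, S.add_cancel]

theorem Space.refl_form (v x y : W) : β (refl β v x) (refl β v y) = β x y := by
  rcases z01 (β x v) with h | h <;> rcases z01 (β y v) with h' | h' <;>
    simp [refl, h, h', S.add, S.add_right, S.alt, S.symm v, add_assoc, (by decide : (1 : ZMod 2) + 1 = 0)]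

theorem Space.refl_conj (b c x : W) : refl β b (refl β c x) = refl β (refl β b c) (refl β b x) := by
  rcases z01 (β x c) with h | h
  · rw [refl.eq_def β c x, if_neg (by simp [h]), refl.eq_def β (refl β b c), S.refl_form, if_neg (by simp [h])]
  · rw [refl.eq_def β c x, if_pos h, refl.eq_def β (refl β b c), S.refl_form, if_pos h]
    rcases z01 (β x b) with e | e <;> rcases z01 (β c b) with e' | e' <;>
      simp [refl, e, e', S.add, (by decide : (1 : ZMod 2) + 1 = 0)]
    all_goals abel_nf
    all_goals simp [two_zsmul, S.two]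

/-- Only the identity. -/
theorem Space.rigid {P : Set (W → W)} (iso : ∀ k ∈ P, IsIso β q k)
    (comm : ∀ k ∈ P, ∀ a b : W, q a = 1 → q b = 1 →
      ∃ k' ∈ P, ∀ x, k' x = refl β (k a) (refl β (k b) (refl β b (refl β a x))))
    (key : ∀ k ∈ P, ∀ r : W, q r = 0 → r ≠ 0 → k r = r → ∀ x, β x r = 0 → k x = x ∨ k x = x + r) :
    ∀ k ∈ P, ∀ x, k x = x := by
  have fix_eq : ∀ {w x : W}, β x w = 0 → refl β w x = x := fun {w x} h => by simp [refl, h]
  have move_eq : ∀ {w x : W}, β x w = 1 → refl β w x = x + w := fun {w x} h => by simp [refl, h]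
  -- two transvections are impossible
  have two : ∀ k ∈ P, ∀ v v' : W, q v = 1 → q v' = 1 → (∀ x, k x = refl β v' (refl β v x)) → v = v' := by
    intro k hk v v' hv hv' hkx
    by_contra hne
    obtain ⟨r, w, hr, hra, hrb, hwa, hwb, hrw⟩ := S.exists_plus_perp (b := v') hv
    obtain ⟨u, huv, huv'⟩ : ∃ u, β u v = 1 ∧ β u v' = 0 := by
      obtain ⟨u₁, hu₁⟩ := S.exists_bit fun e : v + v' = 0 => hne (S.eq_of_add e)
      rw [S.symm, S.add_right] at hu₁
      rcases z01 (β u₁ v) with e | e
      · obtain ⟨u₂, hu₂⟩ := S.exists_bit (a := v) fun h => by simp [h, S.q_zero] at hv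
        rw [S.symm] at hu₂
        rw [e, zero_add] at hu₁
        rcases z01 (β u₂ v') with e' | e'
        · exact ⟨u₂, hu₂, e'⟩
        · exact ⟨u₁ + u₂, by rw [S.add, e, hu₂, zero_add], by rw [S.add, hu₁, e']; decide⟩
      · rw [e] at hu₁
        exact ⟨u₁, e, (by decide : ∀ c : ZMod 2, 1 + c = 1 → c = 0) _ hu₁⟩
    obtain ⟨x, hx, hxv, hxv'⟩ : ∃ x, β x r = 0 ∧ β x v = 1 ∧ β x v' = 0 := by
      rcases z01 (β u r) with e | e
      · exact ⟨u, e, huv, huv'⟩
      · exact ⟨u + w, by rw [S.add, e, S.symm w, hrw]; decide, by rw [S.add, huv, hwa, add_zero],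
          by rw [S.add, huv', hwb, add_zero]⟩
    have hfix : k r = r := by rw [hkx, fix_eq hra, fix_eq hrb]
    rcases key k hk r hr (S.ne_zero_of_bit hrw) hfix x hx with h | h
    · rw [hkx, move_eq hxv] at h
      rcases z01 (β (x + v) v') with e | e
      · rw [fix_eq e] at h
        have : v = 0 := by simpa using h
        rw [this, S.q_zero] at hv
        exact zero_ne_one hv
      · rw [move_eq e, add_assoc] at h
        exact hne (S.eq_of_add (by simpa using h))
    · rw [hkx, move_eq hxv] at h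
      have hw : β (refl β v' (x + v)) w = β x w := by
        rcases z01 (β (x + v) v') with e | e
        · rw [fix_eq e, S.add, S.symm v, hwa, add_zero]
        · rw [move_eq e, S.add, S.add, S.symm v, hwa, S.symm v', hwb, add_zero, add_zero]
      rw [h, S.add, hrw] at hw
      exact absurd hw ((by decide : ∀ c : ZMod 2, c + 1 ≠ c) _)
  -- roots generate
  have gen : ∀ k ∈ P, (∀ a, q a = 1 → k a = a) → ∀ x, k x = x := by
    intro k hk hroot x
    rcases z01 (q x) with hx | hx
    · obtain ⟨a, ha, hax, -⟩ := S.exists_root_perp x x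
      have h := hroot (x + a) (by rw [S.quad, hx, ha, S.symm, hax]; decide)
      rw [(iso k hk).map_add, hroot a ha] at h
      exact add_right_cancel h
    · exact hroot x hx
  -- a fixed root
  have fixed : ∀ k ∈ P, ∀ w, q w = 1 → k w = w → ∀ x, k x = x := by
    intro k hk w hw hkw
    refine gen k hk fun v hv => ?_
    obtain ⟨k', hk', hk'x⟩ := comm k hk v w hv hw
    exact (two k' hk' v (k v) hv ((iso k hk).quad v ▸ hv) fun x => by rw [hk'x, hkw, S.refl_refl]).symm
  intro k hk
  have I := iso k hk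
  have hk0 : k 0 = 0 := by
    have h := I.map_add 0 0
    rw [add_zero] at h
    exact left_eq_add.1 h
  by_contra hne
  have nofix : ∀ w, q w = 1 → k w ≠ w := fun w hw e => hne (fixed k hk w hw e)
  -- the square of `k` on roots
  have sq : ∀ a, q a = 1 → k (k a) = if β a (k a) = 1 then a + k a else a := by
    intro a ha
    have hb : q (k a) = 1 := (I.quad a).trans ha
    obtain ⟨k', hk', hk'x⟩ := comm k hk a (k a) ha hb
    have hc : q (refl β (k a) (k (k a))) = 1 := by
      rcases z01 (β (k (k a)) (k a)) with e | e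
      · rw [fix_eq e, I.quad, hb]
      · rw [move_eq e, S.quad, I.quad, hb, e]; decide
    have h := two k' hk' a _ ha hc fun x => by rw [hk'x, S.refl_conj, S.refl_refl]
    have h' := congrArg (refl β (k a)) h
    rw [S.refl_refl] at h'
    rw [← h', refl]
  -- the commutation of `a` and `k a` is constant
  have same : ∀ a d, q a = 1 → q d = 1 → β a d = 1 → β a (k a) = β d (k d) := by
    intro a d ha hd had
    by_contra hε
    wlog h1 : β a (k a) = 1 generalizing a d
    · refine this d a hd ha (by rw [S.symm]; exact had) (fun e => hε e.symm) ?_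
      rcases z01 (β d (k d)) with e | e
      · exact absurd (((z01 _).resolve_right h1).trans e.symm) hε
      · exact e
    have h0 : β d (k d) = 0 := (z01 _).resolve_right fun e => hε (h1.trans e.symm)
    have hsum : q (a + d) = 1 := by rw [S.quad, ha, hd, had]; decide
    have h := sq _ hsum
    rw [I.map_add, I.map_add, sq a ha, sq d hd, if_pos h1, if_neg (by rw [h0]; exact zero_ne_one)] at h
    split_ifs at h
    · refine nofix d hd ?_
      have : k d = 0 := by
        rw [show a + d + (k a + k d) = a + k a + d + k d by abel] at h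
        simpa using h
      rw [← I.quad d, this, S.q_zero] at hd
      exact absurd hd zero_ne_one
    · have : k a = 0 := by
        rw [show a + k a + d = a + d + k a by abel] at h
        simpa using h
      rw [← I.quad, this, S.q_zero] at ha
      exact zero_ne_one ha
  have const : ∀ a d, q a = 1 → q d = 1 → β a (k a) = β d (k d) := by
    intro a d ha hd
    rcases z01 (β a d) with h | h
    · by_cases had : a = d
      · rw [had]
      obtain ⟨u, hua, hud⟩ : ∃ u, β u a = 1 ∧ β u d = 1 := by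
        have h0 : ∀ {z : W}, q z = 1 → z ≠ 0 := fun hz e => by simp [e, S.q_zero] at hz
        obtain ⟨u₁, h₁⟩ := S.exists_bit (h0 ha)
        obtain ⟨u₂, h₂⟩ := S.exists_bit (h0 hd)
        rw [S.symm] at h₁ h₂
        rcases z01 (β u₁ d) with e | e
        · rcases z01 (β u₂ a) with e' | e'
          · exact ⟨u₁ + u₂, by rw [S.add, h₁, e', add_zero], by rw [S.add, e, h₂, zero_add]⟩
          · exact ⟨u₂, e', h₂⟩
        · exact ⟨u₁, h₁, e⟩
      obtain ⟨e, he, hea, hed⟩ : ∃ e, q e = 1 ∧ β e a = 1 ∧ β e d = 1 := by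
        rcases z01 (q u) with hu | hu
        · obtain ⟨o, o', hoo, h1, h2, h3, h4⟩ := S.exists_perp a d
          obtain ⟨z, hz, hz'⟩ := S.exists_one hoo u
          obtain ⟨hza, hzd⟩ : β z a = 0 ∧ β z d = 0 := by
            rcases hz with rfl | rfl | rfl <;> simp [h1, h2, h3, h4, S.add]
          exact ⟨u + z, by rw [S.quad, hu, zero_add, hz'], by rw [S.add, hua, hza, add_zero],
            by rw [S.add, hud, hzd, add_zero]⟩
        · exact ⟨u, hu, hua, hud⟩
      exact (same a e ha he (by rw [S.symm]; exact hea)).trans (same e d he hd hed)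
    · exact same a d ha hd h
  obtain ⟨a, ha, -, -⟩ := S.exists_root_perp 0 0
  rcases z01 (β a (k a)) with ε | ε
  · -- an involution
    have hinv : ∀ x, k (k x) = x := by
      have hr : ∀ d, q d = 1 → k (k d) = d := fun d hd => by
        rw [sq d hd, if_neg (by rw [← const a d ha hd, ε]; exact zero_ne_one)]
      intro x
      rcases z01 (q x) with hx | hx
      · obtain ⟨c, hc, hcx, -⟩ := S.exists_root_perp x x
        have h := hr (x + c) (by rw [S.quad, hx, hc, S.symm, hcx]; decide)
        rw [I.map_add, I.map_add, hr c hc] at h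
        exact add_right_cancel h
      · exact hr x hx
    obtain ⟨r, hr⟩ : ∃ r, r = a + k a := ⟨_, rfl⟩
    have hr0 : r ≠ 0 := fun h => nofix a ha (S.eq_of_add (hr ▸ h)).symm
    have hkr : k r = r := by rw [hr, I.map_add, hinv, add_comm]
    have hqr : q r = 0 := by rw [hr, S.quad, I.quad, ha, ε]; decide
    obtain ⟨y, hy⟩ := S.exists_bit hr0
    obtain ⟨w, hw, hwr, hwz⟩ := S.exists_root_perp r (y + k y)
    rcases key k hk r hqr hr0 hkr w hwr with h | h
    · exact nofix w hw h
    · have e : β (k w) y = β w (k y) := by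
        conv_lhs => rw [← hinv y]
        exact I.form _ _
      rw [h, S.add, hy] at e
      rw [S.add_right, ← e] at hwz
      exact absurd hwz ((by decide : ∀ c : ZMod 2, c + (c + 1) ≠ 0) _)
  · -- order three
    have hba : β (k a) a = 1 := by rw [S.symm]; exact ε
    obtain ⟨o, o', hoo, h1, h2, h3, h4⟩ := S.exists_perp a (k a)
    obtain ⟨d, hd, hd'⟩ := S.exists_one hoo 0
    rw [S.zero_left, add_zero] at hd'
    obtain ⟨hda, hdb⟩ : β d a = 0 ∧ β d (k a) = 0 := by
      rcases hd with rfl | rfl | rfl <;> simp [h1, h2, h3, h4, S.add]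
    have hdd : β d (k d) = 1 := (const a d ha hd').symm.trans ε
    have hkd2 : k (k d) = d + k d := by rw [sq d hd', if_pos hdd]
    have hkb : β (k d) (k a) = 0 := (I.form d a).trans hda
    have hka : β (k d) a = 0 := by
      have h := I.form (k d) a
      rw [hkd2, S.add, hdb, zero_add, hkb] at h
      exact h.symm
    obtain ⟨z, z', hzz, ⟨e1, e2, e3, e4⟩, ⟨e1', e2', e3', e4'⟩⟩ := S.exists_perp_pairs ε hdd hda hdb hka hkb
    obtain ⟨w, hw, hw'⟩ := S.exists_one hzz 0
    rw [S.zero_left, add_zero] at hw'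
    obtain ⟨w1, w2, w3, w4⟩ : β w a = 0 ∧ β w (k a) = 0 ∧ β w d = 0 ∧ β w (k d) = 0 := by
      rcases hw with rfl | rfl | rfl <;> simp [e1, e2, e3, e4, e1', e2', e3', e4', S.add]
    obtain ⟨k', hk', hk'x⟩ := comm k hk a d ha hd'
    have hk'w : k' w = w := by rw [hk'x, fix_eq w1, fix_eq w3, fix_eq w4, fix_eq w2]
    have h := fixed k' hk' w hw' hk'w a
    have hda' : β a d = 0 := by rw [S.symm]; exact hda
    have hka' : β a (k d) = 0 := by rw [S.symm]; exact hka
    rw [hk'x, S.refl_self, fix_eq hda', fix_eq hka', move_eq ε] at h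
    have : k a = 0 := by simpa using h
    rw [← I.quad, this, S.q_zero] at ha
    exact zero_ne_one ha

end CfsgLib.SympPow
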