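import Cfsg.Agent.SympType.Blocks
import Cfsg.Agent.SympType.Coords
import Cfsg.Agent.Forms.SymplecticBasis
import Cfsg.Agent.Forms.Symplectic
import Cfsg.Agent.MaxSub.SymplecticDecomposition
import Cfsg.Agent.SpEight.Small

/-!
# Coordinates in which two anticommuting symplectic involutions of `F⁴ˡ` are `diag (1, -1)` and the swap

The form becomes the orthogonal sum of two copies of the standard form on `F²ˡ`.
-/

set_option autoImplicit false
set_option linter.unusedSectionVars false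

namespace CfsgLib.SympPow

open Matrix Cfsg.Geo CfsgLib.SympType

local notation:max "mat" => Units.val

variable {F : Type*} [Field F] {l : ℕ}

local notation "κ" => (Fin l ⊕ Fin l)
local notation "ι" => (Fin (l + l) ⊕ Fin (l + l))

/-- The orthogonal sum of two standard forms. -/
noncomputable def pairForm (u v : κ ⊕ κ → F) : F :=
  Cfsg.sympForm l F (u ∘ Sum.inl) (v ∘ Sum.inl) + Cfsg.sympForm l F (u ∘ Sum.inr) (v ∘ Sum.inr)

/-- The isometry group of the orthogonal sum. -/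
noncomputable def pairSp (l : ℕ) (F : Type*) [Field F] : Subgroup (GL ((Fin l ⊕ Fin l) ⊕ (Fin l ⊕ Fin l)) F) :=
  Cfsg.preserving (Units.coeHom _) (pairForm (F := F) (l := l))

theorem mem_pairSp {g : GL (κ ⊕ κ) F} :
    g ∈ pairSp l F ↔ ∀ u v, pairForm (mat g *ᵥ u) (mat g *ᵥ v) = pairForm u v := Iff.rfl

theorem bd_mulVec_inl (a b : GL κ F) (u : κ ⊕ κ → F) :
    (mat (bd (a, b)) *ᵥ u) ∘ Sum.inl = mat a *ᵥ (u ∘ Sum.inl) := by
  funext i; simp [bd_val, fromBlocks_mulVec]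

theorem bd_mulVec_inr (a b : GL κ F) (u : κ ⊕ κ → F) :
    (mat (bd (a, b)) *ᵥ u) ∘ Sum.inr = mat b *ᵥ (u ∘ Sum.inr) := by
  funext i; simp [bd_val, fromBlocks_mulVec]

theorem sympForm_zero (m : ℕ) (u : Fin m ⊕ Fin m → F) :
    Cfsg.sympForm m F 0 u = 0 := by
  simp [Forms.sympForm_eq_sum]

theorem bd_mem_pairSp {a b : GL κ F} :
    bd (a, b) ∈ pairSp l F ↔ a ∈ Cfsg.spGL l F ∧ b ∈ Cfsg.spGL l F := by
  simp only [mem_pairSp, MaxSub.mem_spGL_iff, pairForm, bd_mulVec_inl, bd_mulVec_inr]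
  refine ⟨fun h => ⟨fun u v => ?_, fun u v => ?_⟩, fun ⟨ha, hb⟩ u v => by rw [ha, hb]⟩
  · have := h (Sum.elim u 0) (Sum.elim v 0)
    simpa [sympForm_zero] using this
  · have := h (Sum.elim 0 u) (Sum.elim 0 v)
    simpa [sympForm_zero] using this

theorem sw_mulVec_inl (u : κ ⊕ κ → F) :
    (mat (sw : GL (κ ⊕ κ) F) *ᵥ u) ∘ Sum.inl = u ∘ Sum.inr := by
  funext i; simp [sw, fromBlocks_mulVec]

theorem sw_mulVec_inr (u : κ ⊕ κ → F) :
    (mat (sw : GL (κ ⊕ κ) F) *ᵥ u) ∘ Sum.inr = u ∘ Sum.inl := by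
  funext i; simp [sw, fromBlocks_mulVec]

theorem sw_mem_pairSp : (sw : GL (κ ⊕ κ) F) ∈ pairSp l F := fun u v => by
  show pairForm (mat (sw : GL (κ ⊕ κ) F) *ᵥ u) (mat (sw : GL (κ ⊕ κ) F) *ᵥ v) = _
  simp only [pairForm, sw_mulVec_inl, sw_mulVec_inr]
  exact add_comm _ _

/-- The coordinates carry the sum of the two forms to the standard form. -/
def FormTo (M : Matrix ι (κ ⊕ κ) F) : Prop :=
  ∀ u v : κ ⊕ κ → F, Cfsg.sympForm (l + l) F (M *ᵥ u) (M *ᵥ v) = pairForm (l := l) u v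

variable (M : Matrix (Fin (l + l) ⊕ Fin (l + l)) ((Fin l ⊕ Fin l) ⊕ (Fin l ⊕ Fin l)) F)
  (N : Matrix ((Fin l ⊕ Fin l) ⊕ (Fin l ⊕ Fin l)) (Fin (l + l) ⊕ Fin (l + l)) F) (hMN : M * N = 1) (hNM : N * M = 1)

theorem spGL_comap (hM : FormTo M) :
    (Cfsg.spGL (l + l) F).comap (coordEquiv M N hMN hNM).toMonoidHom = pairSp l F := by
  ext g
  rw [Subgroup.mem_comap, MaxSub.mem_spGL_iff, mem_pairSp]
  have e : ∀ u, mat (coordEquiv M N hMN hNM g) *ᵥ (M *ᵥ u) = M *ᵥ (mat g *ᵥ u) := fun u => by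
    rw [coordEquiv_val, mulVec_mulVec, mulVec_mulVec, Matrix.mul_assoc, hNM, Matrix.mul_one]
  refine ⟨fun h u v => ?_, fun h u v => ?_⟩
  · rw [← hM, ← hM, ← e, ← e]; exact h _ _
  · have eu : ∀ u, u = M *ᵥ (N *ᵥ u) := fun u => by rw [mulVec_mulVec, hMN, one_mulVec]
    show Cfsg.sympForm (l + l) F (mat (coordEquiv M N hMN hNM g) *ᵥ u) (mat (coordEquiv M N hMN hNM g) *ᵥ v) = _
    rw [eu u, eu v, e, e, hM, hM, h]

omit M N hMN hNM

/-- Symplectic coordinates for two anticommuting involutions. -/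
theorem exists_frame (h2 : (2 : F) ≠ 0) {x y : GL ι F} (hxS : x ∈ Cfsg.spGL (l + l) F) (hyS : y ∈ Cfsg.spGL (l + l) F)
    (hx : x * x = 1) (hy : y * y = 1) (hxy : x * y = -(y * x)) :
    ∃ (M : Matrix ι (κ ⊕ κ) F) (N : Matrix (κ ⊕ κ) ι F) (hMN : M * N = 1) (hNM : N * M = 1),
      coordEquiv M N hMN hNM sg = x ∧ coordEquiv M N hMN hNM sw = y ∧ FormTo M := by
  classical
  let e : ι ≃ κ ⊕ κ := Fintype.equivOfCardEq (by simp)
  obtain ⟨M₀, N₀, hMN₀, hNM₀, hsg, hsw⟩ := exists_coords h2 e hx hy hxy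
  let L : (κ → F) →ₗ[F] (ι → F) := (Matrix.toLin' M₀).comp
    (LinearMap.pi (Sum.elim (fun i => LinearMap.proj i) (fun _ => 0)))
  have hL : ∀ p : κ → F, L p = M₀ *ᵥ Sum.elim p 0 := fun p => by
    show Matrix.toLin' M₀ _ = _
    rw [toLin'_apply]
    congr 1
    funext s; rcases s with i | i <;> rfl
  let L' : (κ → F) → (ι → F) := fun p => M₀ *ᵥ Sum.elim 0 p
  have hinv : ∀ {g : GL (κ ⊕ κ) F} {z : GL ι F}, coordEquiv M₀ N₀ hMN₀ hNM₀ g = z → ∀ u,
      mat z *ᵥ (M₀ *ᵥ u) = M₀ *ᵥ (mat g *ᵥ u) := fun {g z} h u => by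
    rw [← h, coordEquiv_val, mulVec_mulVec, mulVec_mulVec, Matrix.mul_assoc, hNM₀, Matrix.mul_one]
  have hsgL : ∀ p, mat x *ᵥ L p = L p := fun p => by
    rw [hL, hinv hsg, sg, bd_val, fromBlocks_mulVec]
    congr 1
    funext s; rcases s with i | i <;> simp
  have hsgL' : ∀ p, mat x *ᵥ L' p = -L' p := fun p => by
    show mat x *ᵥ (M₀ *ᵥ _) = -(M₀ *ᵥ _)
    rw [hinv hsg, sg, bd_val, fromBlocks_mulVec, ← mulVec_neg]
    congr 1
    funext s; rcases s with i | i <;> simp [neg_mulVec]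
  have hswL : ∀ p, mat y *ᵥ L p = L' p := fun p => by
    rw [hL, hinv hsw, sw, fromBlocks_mulVec]
    show M₀ *ᵥ _ = M₀ *ᵥ _
    congr 1
    funext s; rcases s with i | i <;> simp
  have hsplit : ∀ u : κ ⊕ κ → F, M₀ *ᵥ u = L (u ∘ Sum.inl) + L' (u ∘ Sum.inr) := fun u => by
    rw [hL]
    show _ = _ + M₀ *ᵥ _
    rw [← mulVec_add]
    congr 1
    funext s; rcases s with i | i <;> simp
  have hcross : ∀ p q, Cfsg.sympForm (l + l) F (L p) (L' q) = 0 := fun p q => by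
    have h := MaxSub.mem_spGL_iff.1 hxS (L p) (L' q)
    rw [hsgL, hsgL', ← neg_one_smul F (L' q), MaxSub.sesq_sympForm.smul_right, RingEquiv.refl_apply] at h
    exact (mul_eq_zero.1 (by linear_combination -h : (2 : F) * Cfsg.sympForm (l + l) F (L p) (L' q) = 0)).resolve_left h2
  let B : LinearMap.BilinForm F (κ → F) := (Forms.sympBilin (l + l) F).compl₁₂ L L
  have hB : ∀ p q, B p q = Cfsg.sympForm (l + l) F (L p) (L q) := fun p q => Forms.sympBilin_apply _ _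
  have hA : B.IsAlt := fun p => by rw [hB, Forms.sympForm_self]
  have hnd : ∀ p, (∀ q, B p q = 0) → p = 0 := fun p h => by
    have h0 : L p = 0 := by
      refine Forms.sympForm_sep _ fun v => ?_
      rw [show v = M₀ *ᵥ (N₀ *ᵥ v) by rw [mulVec_mulVec, hMN₀, one_mulVec], hsplit,
        MaxSub.sesq_sympForm.add_right, hcross, add_zero, ← hB]
      exact h _
    have h1 := congrArg (N₀ *ᵥ ·) h0
    simp only [hL, mulVec_mulVec, hNM₀, one_mulVec, mulVec_zero] at h1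
    simpa using congrArg (· ∘ Sum.inl) h1
  obtain ⟨m, b, b1, b2, b3⟩ := Forms.exists_symplectic_basis_nondeg B hA
    ⟨hnd, fun q h => hnd q fun p => by rw [← LinearMap.IsAlt.neg hA p q, h p, neg_zero]⟩
  obtain rfl : l = m := by
    have := Module.finrank_eq_card_basis b
    rw [Module.finrank_pi, Fintype.card_sum, Fintype.card_sum, Fintype.card_fin, Fintype.card_fin] at this
    omega
  let E : (κ → F) ≃ₗ[F] (κ → F) := (b.reindex (Equiv.sumComm _ _)).equivFun.symm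
  have hE : ∀ p q, Cfsg.sympForm (l + l) F (L (E p)) (L (E q)) = Cfsg.sympForm l F p q := by
    have h : B.compl₁₂ E.toLinearMap E.toLinearMap = Forms.sympBilin l F := by
      refine LinearMap.BilinForm.ext_basis (Pi.basisFun F κ) fun i j => ?_
      have hs : ∀ k, E (Pi.single k 1) = b k.swap := fun k => by
        simp [E, Module.Basis.equivFun_symm_apply, Pi.single_apply]
      rw [Pi.basisFun_apply, Pi.basisFun_apply, LinearMap.compl₁₂_apply, LinearEquiv.coe_coe, hs, hs,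
        Forms.sympBilin_apply]
      rcases i with i | i <;> rcases j with j | j <;> simp only [Sum.swap_inl, Sum.swap_inr]
      · rw [b3]; simp [Forms.sympForm_single_inl]
      · rw [← LinearMap.IsAlt.neg hA (b (Sum.inl j)) (b (Sum.inr i)), b1, Forms.sympForm_single_inr]; simp [Pi.single_apply, eq_comm]
      · rw [b1, Forms.sympForm_single_inl]; simp [Pi.single_apply, eq_comm]
      · rw [b2]; simp [Forms.sympForm_single_inr]
    intro p q
    rw [← Forms.sympBilin_apply p q, ← h, LinearMap.compl₁₂_apply, hB]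
    rfl
  obtain ⟨P, hP⟩ : ∃ P : GL κ F, ∀ p, mat P *ᵥ p = E p := by
    refine ⟨⟨LinearMap.toMatrix' E.toLinearMap, LinearMap.toMatrix' E.symm.toLinearMap, ?_, ?_⟩, fun p => ?_⟩
    · rw [← LinearMap.toMatrix'_comp, LinearEquiv.comp_symm, LinearMap.toMatrix'_id]
    · rw [← LinearMap.toMatrix'_comp, LinearEquiv.symm_comp, LinearMap.toMatrix'_id]
    · show LinearMap.toMatrix' E.toLinearMap *ᵥ p = _
      rw [LinearMap.toMatrix'_mulVec]; rfl
  have hMN : M₀ * mat (bd (P, P)) * (mat (bd (P, P))⁻¹ * N₀) = 1 := by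
    rw [Matrix.mul_assoc, ← Matrix.mul_assoc (mat (bd (P, P))), ← Units.val_mul, mul_inv_cancel, Units.val_one,
      Matrix.one_mul, hMN₀]
  have hNM : mat (bd (P, P))⁻¹ * N₀ * (M₀ * mat (bd (P, P))) = 1 := by
    rw [Matrix.mul_assoc, ← Matrix.mul_assoc N₀, hNM₀, Matrix.one_mul, ← Units.val_mul, inv_mul_cancel,
      Units.val_one]
  have hconj : ∀ g, coordEquiv _ _ hMN hNM g = coordEquiv M₀ N₀ hMN₀ hNM₀ (bd (P, P) * g * (bd (P, P))⁻¹) :=
    fun g => Units.ext (by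
      rw [coordEquiv_val, coordEquiv_val, Units.val_mul, Units.val_mul]; simp only [Matrix.mul_assoc])
  refine ⟨_, _, hMN, hNM, ?_, ?_, fun u v => ?_⟩
  · rw [hconj, ← sg_comm_bd, mul_inv_cancel_right, hsg]
  · rw [hconj, ← sw_bd, mul_inv_cancel_right, hsw]
  · rw [← mulVec_mulVec, ← mulVec_mulVec, hsplit, hsplit]
    simp only [bd_mulVec_inl, bd_mulVec_inr, hP]
    rw [MaxSub.sesq_sympForm.add_left, MaxSub.sesq_sympForm.add_right, MaxSub.sesq_sympForm.add_right, hcross,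
      Forms.sympForm_swap (L _) (L' _), hcross, ← hswL, ← hswL, MaxSub.mem_spGL_iff.1 hyS, hE, hE]
    simp [pairForm]

/-- Overgroups of the stabiliser of the two summands. -/
theorem pairSp_le_of_blocks [Fintype F] (hl : 2 ≤ l) (h2 : (2 : F) ≠ 0) {M : Matrix ι (κ ⊕ κ) F} {N : Matrix (κ ⊕ κ) ι F}
    {hMN : M * N = 1} {hNM : N * M = 1} (hM : FormTo M) {H : Subgroup (GL (κ ⊕ κ) F)} (hH : H ≤ pairSp l F)
    (hbd : ∀ a ∈ Cfsg.spGL l F, ∀ b ∈ Cfsg.spGL l F, bd (a, b) ∈ H) (hsw : sw ∈ H)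
    {g : GL (κ ⊕ κ) F} (hg : g ∈ H) (hne : g * sg * g⁻¹ ≠ sg) (hne' : g * sg * g⁻¹ ≠ -(sg : GL (κ ⊕ κ) F)) :
    pairSp l F ≤ H := by
  classical
  let C : Fin 2 → Submodule F (κ ⊕ κ → F) :=
    ![LinearMap.ker (LinearMap.funLeft F F Sum.inr), LinearMap.ker (LinearMap.funLeft F F Sum.inl)]
  have hC : ∀ k u, u ∈ C k ↔ ![u ∘ Sum.inr, u ∘ Sum.inl] k = 0 := fun k u => by
    fin_cases k <;> simp [C] <;> rfl
  let Mi : (κ ⊕ κ → F) ≃ₗ[F] (ι → F) :=
    { Matrix.toLin' M with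
      invFun := fun v => N *ᵥ v
      left_inv := fun u => by simp [mulVec_mulVec, hNM]
      right_inv := fun v => by simp [mulVec_mulVec, hMN] }
  have hMi : ∀ u, Mi u = M *ᵥ u := fun u => toLin'_apply M u
  let D : Fin 2 → Submodule F (ι → F) := fun k => (C k).map Mi.toLinearMap
  have hmemD : ∀ k u, M *ᵥ u ∈ D k ↔ u ∈ C k := fun k u => by
    rw [← hMi]; exact ⟨fun ⟨v, hv, e⟩ => Mi.injective e ▸ hv, fun h => ⟨u, h, rfl⟩⟩
  have hsum : ∀ u, ∃ p ∈ C 0, ∃ q ∈ C 1, u = p + q := fun u =>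
    ⟨Sum.elim (u ∘ Sum.inl) 0, (hC 0 _).2 (by simp), Sum.elim 0 (u ∘ Sum.inr), (hC 1 _).2 (by simp), by
      funext s; rcases s with i | i <;> simp⟩
  have hdisj : C 0 ⊓ C 1 = ⊥ := by
    rw [eq_bot_iff]
    rintro u ⟨h0, h1⟩
    have e0 : u ∘ Sum.inr = 0 := by simpa using (hC 0 u).1 h0
    have e1 : u ∘ Sum.inl = 0 := by simpa using (hC 1 u).1 h1
    rw [Submodule.mem_bot]
    funext s; rcases s with i | i
    exacts [congrFun e1 i, congrFun e0 i]
  have hrank : ∀ k, Module.finrank F (C k) = l + l := fun k => by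
    have h8 : Module.finrank F (κ ⊕ κ → F) = l + l + (l + l) := by simp
    have hr : ∀ f : κ → κ ⊕ κ, Function.Injective f →
        Module.finrank F (LinearMap.ker (LinearMap.funLeft F F f)) = l + l := fun f hf => by
      have h := LinearMap.finrank_range_add_finrank_ker (LinearMap.funLeft F F f)
      rw [LinearMap.range_eq_top.2 (LinearMap.funLeft_surjective_of_injective _ _ f hf), finrank_top, h8] at h
      simp at h
      omega
    fin_cases k
    exacts [hr _ Sum.inr_injective, hr _ Sum.inl_injective]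
  have hD : IsNondegenerateMDecomposition (Cfsg.sympForm (l + l) F) (l + l) D := by
    refine ⟨⟨le_rfl, by omega, fun k => ?_, ?_, ?_⟩, ?_, ?_⟩
    · rw [LinearEquiv.finrank_map_eq, hrank]
    · rw [iSupIndep_pair (show (0 : Fin 2) ≠ 1 by decide) (fun k => by fin_cases k <;> simp)]
      show Disjoint ((C 0).map _) ((C 1).map _)
      rw [disjoint_iff, ← Submodule.map_inf _ Mi.injective, hdisj, Submodule.map_bot]
    · rw [eq_top_iff]
      intro v _
      obtain ⟨u, rfl⟩ := Mi.surjective v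
      obtain ⟨p, hp, q, hq, rfl⟩ := hsum u
      rw [map_add]
      exact add_mem (Submodule.mem_iSup_of_mem 0 ⟨p, hp, rfl⟩) (Submodule.mem_iSup_of_mem 1 ⟨q, hq, rfl⟩)
    · intro k w hw hw0
      obtain ⟨u, hu, rfl⟩ := hw
      suffices ∃ z ∈ D k, Cfsg.sympForm (l + l) F (Mi u) z ≠ 0 by
        obtain ⟨z, hz, hz'⟩ := this
        exact ⟨⟨z, hz, by rw [Forms.sympForm_swap]; simpa using hz'⟩, z, hz, hz'⟩
      have hu0 : u ≠ 0 := fun h => hw0 (by rw [h]; exact map_zero _)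
      have hpart : ![u ∘ Sum.inl, u ∘ Sum.inr] k ≠ 0 := fun h => hu0 (by
        have h' := (hC k u).1 hu
        fin_cases k <;> simp at h h' <;> funext s <;> rcases s with i | i <;>
          first | exact congrFun h i | exact congrFun h' i)
      obtain ⟨q, hq⟩ : ∃ q, Cfsg.sympForm l F (![u ∘ Sum.inl, u ∘ Sum.inr] k) q ≠ 0 := by
        by_contra h
        push Not at h
        exact hpart (Forms.sympForm_sep _ h)
      refine ⟨M *ᵥ ![Sum.elim q 0, Sum.elim 0 q] k, (hmemD k _).2 ((hC k _).2 (by fin_cases k <;> simp)), ?_⟩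
      rw [hMi, hM]
      have h' := (hC k u).1 hu
      fin_cases k <;> simp at h' hq ⊢ <;> simpa [pairForm, h', sympForm_zero] using hq
    · rintro k k' hkl _ ⟨u, hu, rfl⟩ _ ⟨v, hv, rfl⟩
      show Cfsg.sympForm (l + l) F (Mi u) (Mi v) = 0
      rw [hMi, hMi, hM]
      have h1 := (hC k u).1 hu
      have h2 := (hC k' v).1 hv
      have z : ∀ p : κ → F, Cfsg.sympForm l F p 0 = 0 := fun p => by rw [Forms.sympForm_swap, sympForm_zero, neg_zero]
      fin_cases k <;> fin_cases k' <;> first | exact absurd rfl hkl | simp_all [pairForm, sympForm_zero]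
  have hmove : ∀ (h : GL (κ ⊕ κ) F) u, Matrix.toLin' (mat (coordEquiv M N hMN hNM h)) (M *ᵥ u) =
      M *ᵥ (mat h *ᵥ u) := fun h u => by
    rw [toLin'_apply, coordEquiv_val, mulVec_mulVec, mulVec_mulVec, Matrix.mul_assoc, hNM, Matrix.mul_one]
  have hstab : ∀ h : GL (κ ⊕ κ) F, coordEquiv M N hMN hNM h ∈ decompositionStabilizer D →
      ∃ a b, h = bd (a, b) ∨ h = bd (a, b) * sw := by
    rintro h ⟨σ, hσ⟩
    have hto : ∀ k u, u ∈ C k → mat h *ᵥ u ∈ C (σ k) := fun k u hu => by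
      rw [← hmemD, ← hmove, ← hσ]
      exact Submodule.mem_map_of_mem ((hmemD k u).2 hu)
    have col : ∀ (h : GL (κ ⊕ κ) F), (∀ u ∈ C 0, mat h *ᵥ u ∈ C 0) → (∀ u ∈ C 1, mat h *ᵥ u ∈ C 1) →
        h * sg = sg * h := fun h h0 h1 => by
      refine Units.ext ?_
      have e1 : (mat h).toBlocks₂₁ = 0 := Matrix.ext fun i j => by
        have := (hC 0 _).1 (h0 (Pi.single (Sum.inl j) 1) ((hC 0 _).2 (by funext s; simp)))
        simpa [toBlocks₂₁, toBlocks₁₂] using congrFun this i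
      have e2 : (mat h).toBlocks₁₂ = 0 := Matrix.ext fun i j => by
        have := (hC 1 _).1 (h1 (Pi.single (Sum.inr j) 1) ((hC 1 _).2 (by funext s; simp)))
        simpa [toBlocks₂₁, toBlocks₁₂] using congrFun this i
      rw [Units.val_mul, Units.val_mul, sg, bd_val, ← fromBlocks_toBlocks (mat h), e1, e2, fromBlocks_multiply,
        fromBlocks_multiply]
      simp
    rcases (by decide : ∀ σ : Equiv.Perm (Fin 2), σ 0 = 0 ∧ σ 1 = 1 ∨ σ 0 = 1 ∧ σ 1 = 0) σ with ⟨s0, s1⟩ | ⟨s0, s1⟩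
    · obtain ⟨a, b, e⟩ := exists_bd_of_comm h2 (col h (fun u hu => s0 ▸ hto 0 u hu) (fun u hu => s1 ▸ hto 1 u hu))
      exact ⟨a, b, Or.inl e⟩
    · have hs : ∀ u, u ∈ C 0 → mat (sw : GL (κ ⊕ κ) F) *ᵥ u ∈ C 1 := fun u hu => (hC 1 _).2 (by
        simpa [sw_mulVec_inl] using (hC 0 u).1 hu)
      have hs' : ∀ u, u ∈ C 1 → mat (sw : GL (κ ⊕ κ) F) *ᵥ u ∈ C 0 := fun u hu => (hC 0 _).2 (by
        simpa [sw_mulVec_inr] using (hC 1 u).1 hu)
      obtain ⟨a, b, e⟩ := exists_bd_of_comm (g := h * sw) h2 (col (h * sw)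
        (fun u hu => by rw [Units.val_mul, ← mulVec_mulVec]; exact s1 ▸ hto 1 _ (hs u hu))
        (fun u hu => by rw [Units.val_mul, ← mulVec_mulVec]; exact s0 ▸ hto 0 _ (hs' u hu)))
      exact ⟨a, b, Or.inr (by rw [← e, mul_assoc, sw_sq, mul_one])⟩
  have hmax := MaxSub.isMaximalIn_spDecomposition hD (fun h => absurd h.1 (by omega))
  have hS := spGL_comap M N hMN hNM hM
  have hlow : decompositionStabilizer D ⊓ Cfsg.spGL (l + l) F ≤ H.map (coordEquiv M N hMN hNM).toMonoidHom := by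
    rintro z ⟨hz1, hz2⟩
    obtain ⟨h, rfl⟩ := (coordEquiv M N hMN hNM).surjective z
    have hh : h ∈ pairSp l F := hS ▸ hz2
    refine ⟨h, ?_, rfl⟩
    obtain ⟨a, b, rfl | rfl⟩ := hstab h hz1
    · exact hbd a (bd_mem_pairSp.1 hh).1 b (bd_mem_pairSp.1 hh).2
    · have := (pairSp l F).mul_mem hh ((pairSp l F).inv_mem sw_mem_pairSp)
      rw [mul_inv_cancel_right] at this
      exact H.mul_mem (hbd a (bd_mem_pairSp.1 this).1 b (bd_mem_pairSp.1 this).2) hsw
  rcases hmax.2 _ hlow (by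
    rintro _ ⟨h, hh, rfl⟩
    have := hH hh
    rwa [← hS] at this) with e | e
  · exfalso
    have hgm : coordEquiv M N hMN hNM g ∈ decompositionStabilizer D := by
      have : coordEquiv M N hMN hNM g ∈ H.map (coordEquiv M N hMN hNM).toMonoidHom := ⟨g, hg, rfl⟩
      rw [e] at this
      exact this.1
    obtain ⟨a, b, rfl | rfl⟩ := hstab g hgm
    · exact hne (by rw [← sg_comm_bd, mul_inv_cancel_right])
    · refine hne' ?_
      have e : sw * sg * (sw : GL (κ ⊕ κ) F)⁻¹ = -(sg : GL (κ ⊕ κ) F) := by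
        rw [sg, sw_conj, ← bd_neg, neg_neg]
      rw [show bd (a, b) * sw * sg * (bd (a, b) * sw)⁻¹ = bd (a, b) * (sw * sg * sw⁻¹) * (bd (a, b))⁻¹ by group,
        e, mul_neg, neg_mul, ← sg_comm_bd, mul_inv_cancel_right]
  · intro h hh
    have : coordEquiv M N hMN hNM h ∈ H.map (coordEquiv M N hMN hNM).toMonoidHom := by
      rw [e]; rw [← hS] at hh; exact hh
    obtain ⟨h', hh', he⟩ := this
    exact (coordEquiv M N hMN hNM).injective he ▸ hh'


/-- Coordinates for an involution and a partner. -/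
theorem exists_split [Finite F] {R : Subgroup (GL ι F)} (D : Data R) (hR : R ≤ Cfsg.spGL (l + l) F) {u y : GL ι F}
    (hu : u ∈ R) (hy : y ∈ R) (hu2 : u * u = 1) (hy2 : y * y = 1) (huy : u * y = -(y * u)) :
    ∃ (M : Matrix ι (κ ⊕ κ) F) (N : Matrix (κ ⊕ κ) ι F) (hMN : M * N = 1) (hNM : N * M = 1),
      coordEquiv M N hMN hNM sg = u ∧ coordEquiv M N hMN hNM sw = y ∧ FormTo M ∧
      Split (R.comap (coordEquiv M N hMN hNM).toMonoidHom) ∧
      R.comap (coordEquiv M N hMN hNM).toMonoidHom ≤ pairSp l F := by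
  obtain ⟨M, N, hMN, hNM, hsg, hsw, hM⟩ := exists_frame D.two (hR hu) (hR hy) hu2 hy2 huy
  refine ⟨M, N, hMN, hNM, hsg, hsw, hM, ⟨D.comap, ?_, ?_⟩, ?_⟩
  · show coordEquiv M N hMN hNM sg ∈ R
    rw [hsg]; exact hu
  · show coordEquiv M N hMN hNM sw ∈ R
    rw [hsw]; exact hy
  · rw [← spGL_comap M N hMN hNM hM]
    exact Subgroup.comap_mono hR

/-- The symplectic group is an ambient group. -/
theorem ambient_sp {m : ℕ} {R : Subgroup (GL (Fin m ⊕ Fin m) F)} (h2 : (2 : F) ≠ 0) (hR : R ≤ Cfsg.spGL m F) :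
    Ambient (Cfsg.spGL m F) R := by
  refine ⟨hR, ?_⟩
  intro z hz z' hz' hz2 hz'2 _ _ t t' γ ht ht' hγ
  have hs := MaxSub.sesq_sympForm (m := m) (F := F)
  have key : ∀ (z t : GL (Fin m ⊕ Fin m) F), z ∈ R → z * z = -1 → mat t = 1 + mat z → ∀ u v,
      Cfsg.sympForm m F (mat t *ᵥ u) (mat t *ᵥ v) = 2 * Cfsg.sympForm m F u v := by
    intro z t hz hz2 ht u v
    have h1 := MaxSub.mem_spGL_iff.1 (hR hz)
    have h3 : Cfsg.sympForm m F u (mat z *ᵥ v) = -Cfsg.sympForm m F (mat z *ᵥ u) v := by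
      rw [← h1 u (mat z *ᵥ v), mulVec_mulVec v, ← Units.val_mul, hz2, Units.val_neg, Units.val_one, neg_mulVec,
        one_mulVec, ← neg_one_smul F v, hs.smul_right]
      simp
    rw [ht, add_mulVec, add_mulVec, one_mulVec, one_mulVec, hs.add_left, hs.add_right, hs.add_right, h1, h3]
    ring
  refine MaxSub.mem_spGL_iff.2 fun u v => ?_
  rw [hγ, smul_mulVec, smul_mulVec, ← mulVec_mulVec, ← mulVec_mulVec, hs.smul_left, hs.smul_right,
    key z t hz hz2 ht, key z' t' hz' hz'2 ht', RingEquiv.refl_apply]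
  field_simp

variable [Finite F] [Nonempty (Fin l ⊕ Fin l)] {R : Subgroup (GL ((Fin l ⊕ Fin l) ⊕ (Fin l ⊕ Fin l)) F)}

theorem diag_normalizer (S : Split R) {a : GL κ F} (ha : a ∈ subgroupNormalizer (small R)) :
    bd (a, a) ∈ subgroupNormalizer R := by
  refine S.mem_normalizer (fun y hy => ?_) ?_ ?_
  · rw [bd_inv, bd_mul, bd_mul]; exact (Subgroup.mem_normalizer_iff.1 ha y).1 hy
  · rw [← sg_comm_bd, mul_inv_cancel_right]; exact S.sg_mem
  · rw [← sw_bd, mul_inv_cancel_right]; exact S.sw_mem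

theorem right_normalizer (S : Split R) {r : GL κ F} (hr : r ∈ small R) :
    bd (1, r) ∈ subgroupNormalizer R := by
  have D' := S.small_data
  refine S.mem_normalizer (fun y hy => ?_) ?_ ?_
  · rw [bd_inv, bd_mul, bd_mul, inv_one, one_mul, mul_one]
    rcases D'.comm r hr y hy with e | e
    · rw [e, mul_inv_cancel_right]; exact hy
    · rw [e, neg_mul, mul_inv_cancel_right]; exact S.sign_mem hy
  · rw [← sg_comm_bd, mul_inv_cancel_right]; exact S.sg_mem
  · rw [bd_inv, mul_assoc, sw_bd, ← mul_assoc, bd_mul, inv_one, one_mul, mul_one]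
    refine R.mul_mem ?_ S.sw_mem
    rcases D'.sq r hr with h | h
    · rw [inv_eq_of_mul_eq_one_right h]; exact hr
    · rw [inv_eq_of_mul_eq_one_right (show r * -r = 1 by rw [mul_neg, h, neg_neg]),
        show bd (-r, r) = -bd (r, -r) by rw [← bd_neg, neg_neg], ← neg_one_mul]
      exact R.mul_mem S.data.neg (S.sign_mem hr)

end CfsgLib.SympPow
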